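import Mathlib.RingTheory.Norm.Defs
import Mathlib.RingTheory.Ideal.Quotient.Operations
import Mathlib.FieldTheory.Finite.GaloisField
import Mathlib.GroupTheory.Index
import Mathlib.Algebra.Algebra.Tower

/-!
# Finite commutative algebras in which every element is a root of `X ^ N - X`

Minimal idempotents, elements of non-square norm, and Hilbert 90 for an algebra involution.
-/

set_option autoImplicit false
set_option linter.all false

namespace CfsgLib.Orth.SemiCent

variable {F : Type*} [Field F] {A : Type*} [CommRing A] [Algebra F A] [Finite A]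
variable {N : ℕ} (hN : 3 ≤ N) (hfrob : ∀ a : A, a ^ N = a)
include hN hfrob

omit [Algebra F A] [Finite A] in
theorem idem_pow (a : A) : a ^ (N - 1) * a ^ (N - 1) = a ^ (N - 1) ∧ a * a ^ (N - 1) = a := by
  have h1 : a * a ^ (N - 1) = a := by rw [← pow_succ', show N - 1 + 1 = N by omega, hfrob]
  refine ⟨?_, h1⟩
  calc a ^ (N - 1) * a ^ (N - 1) = a ^ (N - 2) * (a * a ^ (N - 1)) := by
        rw [← mul_assoc, ← pow_succ, show N - 2 + 1 = N - 1 by omega]
    _ = a ^ (N - 1) := by rw [h1, ← pow_succ, show N - 2 + 1 = N - 1 by omega]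

omit [Algebra F A] [Finite A] in
theorem pow_eq_one_of_unit {a b : A} (h : a * b = 1) : a ^ (N - 1) = 1 := by
  have h1 := (idem_pow hN hfrob a).2
  calc a ^ (N - 1) = (a * b) * a ^ (N - 1) := by rw [h, one_mul]
    _ = b * (a * a ^ (N - 1)) := by ring
    _ = 1 := by rw [h1, mul_comm, h]

omit [Algebra F A] in
/-- a minimal idempotent below a non-zero one -/
theorem exists_minIdem {e : A} (he : e * e = e) (he0 : e ≠ 0) :
    ∃ h : A, h * h = h ∧ h ≠ 0 ∧ h * e = h ∧ ∀ f : A, f * f = f → f * h = f → f = 0 ∨ f = h := by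
  classical
  obtain ⟨n, hn⟩ : ∃ n, n = Nat.card ↥(Set.range fun a : A => a * e) := ⟨_, rfl⟩
  induction n using Nat.strong_induction_on generalizing e with
  | _ n ih =>
    by_cases hmin : ∀ f : A, f * f = f → f * e = f → f = 0 ∨ f = e
    · exact ⟨e, he, he0, he, hmin⟩
    · push Not at hmin
      obtain ⟨f, hf, hfe, hf0, hne⟩ := hmin
      have hlt : Nat.card ↥(Set.range fun a : A => a * f) < n := by
        rw [hn, Nat.card_coe_set_eq, Nat.card_coe_set_eq]
        refine Set.ncard_lt_ncard ⟨?_, fun hsub => hne ?_⟩ (Set.toFinite _)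
        · rintro _ ⟨a, rfl⟩
          exact ⟨a * f, by show a * f * e = a * f; rw [mul_assoc, hfe]⟩
        · obtain ⟨a, ha⟩ := hsub ⟨e, he⟩
          simp only at ha
          calc f = f * e := hfe.symm
            _ = f * (a * f) := by rw [ha]
            _ = a * f := by rw [mul_left_comm, hf]
            _ = e := ha
      obtain ⟨h, h1, h2, h3, h4⟩ := ih _ hlt hf hf0 rfl
      exact ⟨h, h1, h2, by rw [← h3, mul_assoc, hfe], h4⟩

omit [Algebra F A] [Finite A] in
theorem inv_of_minIdem {h : A} (hh : h * h = h) (hmin : ∀ f : A, f * f = f → f * h = f → f = 0 ∨ f = h) {a : A}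
    (ha : a * h ≠ 0) : a * a ^ (N - 2) * h = h := by
  obtain ⟨h1, h2⟩ := idem_pow hN hfrob (a * h)
  have hp : (a * h) ^ (N - 1) = a ^ (N - 1) * h := by
    rw [mul_pow, (show IsIdempotentElem h from hh).pow_eq (by omega)]
  rcases hmin _ h1 (by rw [hp, mul_assoc, hh]) with h0 | h0
  · exact absurd (by rw [← h2, h0, mul_zero]) ha
  · rw [← pow_succ', show N - 2 + 1 = N - 1 by omega, ← hp, h0]

/-- an element whose norm on the field `h A` is a non-square -/
theorem exists_norm_nonsquare {h : A} (hh : h * h = h) (hh0 : h ≠ 0)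
    (hmin : ∀ f : A, f * f = f → f * h = f → f = 0 ∨ f = h) {c : F} (hc : ¬ IsSquare c) :
    ∃ ε : A, ∀ (V : Type*) [AddCommGroup V] [Module F V] (L : A →ₗ[F] V), (∀ a, L a = 0 ↔ a * h = 0) →
      ∀ T : ↥(LinearMap.range L) →ₗ[F] ↥(LinearMap.range L), (∀ a, (T ⟨L a, a, rfl⟩ : V) = L (ε * a)) →
        ¬ IsSquare (LinearMap.det T) := by
  let I : Ideal A := LinearMap.ker (LinearMap.mulRight A h)
  have hI : ∀ a, a ∈ I ↔ a * h = 0 := fun a => Iff.rfl
  haveI : I.IsMaximal := by
    refine Ideal.isMaximal_iff.2 ⟨fun h1 => hh0 ?_, fun J a hIJ haI haJ => ?_⟩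
    · have := (hI 1).1 h1
      rwa [one_mul] at this
    · have h2 := inv_of_minIdem hN hfrob hh hmin (a := a) (fun h0 => haI ((hI a).2 h0))
      have h3 : 1 - a * a ^ (N - 2) ∈ I := (hI _).2 (by rw [sub_mul, one_mul, h2, sub_self])
      have h4 := J.add_mem (hIJ h3) (J.mul_mem_right (a ^ (N - 2)) haJ)
      rwa [sub_add_cancel] at h4
  letI : Field (A ⧸ I) := Ideal.Quotient.field I
  haveI : Finite (A ⧸ I) := Finite.of_surjective _ Ideal.Quotient.mk_surjective
  haveI : Finite F := Finite.of_injective (algebraMap F (A ⧸ I)) (algebraMap F (A ⧸ I)).injective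
  obtain ⟨x, hx⟩ := FiniteField.norm_surjective F (A ⧸ I) c
  obtain ⟨ε, rfl⟩ := Ideal.Quotient.mk_surjective x
  refine ⟨ε, fun V _ _ L hL T hT => ?_⟩
  let π : A →ₗ[F] (A ⧸ I) := (Ideal.Quotient.mkₐ F I).toLinearMap
  have hπ : ∀ a, π a = Ideal.Quotient.mk I a := fun a => rfl
  have hker : LinearMap.ker π = LinearMap.ker L := by
    ext a
    rw [LinearMap.mem_ker, LinearMap.mem_ker, hπ, Ideal.Quotient.eq_zero_iff_mem, hI, hL]
  have hsurj : Function.Surjective π := Ideal.Quotient.mk_surjective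
  let e : (A ⧸ I) ≃ₗ[F] ↥(LinearMap.range L) :=
    ((π.quotKerEquivOfSurjective hsurj).symm.trans (Submodule.quotEquivOfEq _ _ hker)).trans L.quotKerEquivRange
  have he : ∀ a, e (π a) = ⟨L a, a, rfl⟩ := fun a => by
    have h1 : (π.quotKerEquivOfSurjective hsurj).symm (π a) = Submodule.Quotient.mk a := by
      rw [LinearEquiv.symm_apply_eq]; rfl
    show L.quotKerEquivRange (Submodule.quotEquivOfEq _ _ hker ((π.quotKerEquivOfSurjective hsurj).symm (π a))) = _
    rw [h1]
    rfl
  have hconj : T = e.conj (Algebra.lmul F (A ⧸ I) (Ideal.Quotient.mk I ε)) := by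
    refine LinearMap.ext fun ⟨v, a, hv⟩ => ?_
    subst hv
    have hs : e.symm ⟨L a, a, rfl⟩ = π a := by rw [← he, e.symm_apply_apply]
    rw [LinearEquiv.conj_apply_apply, hs]
    show T _ = e (Ideal.Quotient.mk I ε * Ideal.Quotient.mk I a)
    rw [← map_mul, ← hπ, he]
    exact Subtype.ext (hT a)
  rw [hconj, LinearEquiv.conj_apply, LinearMap.comp_assoc, LinearMap.det_conj,
    show LinearMap.det (Algebra.lmul F (A ⧸ I) (Ideal.Quotient.mk I ε)) = Algebra.norm F (Ideal.Quotient.mk I ε) from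
      (Algebra.norm_apply F _).symm, hx]
  exact hc

variable (σ : A →ₐ[F] A) (hσ : ∀ a, σ (σ a) = a) (h2 : (2 : F) ≠ 0) (hNodd : Odd N) {s : A} (hs : σ s = -s)
include hσ h2 hNodd hs

/-- Hilbert 90 and the surjectivity of the norm onto the fixed units -/
theorem exists_norm_eq (c : Fˣ) :
    ∃ a : A, a * σ a * s ^ (N - 1) = (c : F) • s ^ (N - 1) := by
  classical
  obtain ⟨e1, he1⟩ : ∃ e1, e1 = s ^ (N - 1) := ⟨_, rfl⟩
  obtain ⟨e0, he0⟩ : ∃ e0, e0 = 1 - e1 := ⟨_, rfl⟩
  obtain ⟨i1, i2⟩ := idem_pow hN hfrob s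
  rw [← he1] at i1 i2 ⊢
  have hσ1 : σ e1 = e1 := by
    rw [he1, map_pow, hs, Even.neg_pow (by obtain ⟨j, hj⟩ := hNodd; exact ⟨j, by omega⟩)]
  have h00 : e0 * e0 = e0 := by rw [he0]; linear_combination i1
  have hσ0 : σ e0 = e0 := by rw [he0, map_sub, map_one, hσ1]
  have hse0 : s * e0 = 0 := by rw [he0]; linear_combination -i2
  have h10 : e1 * e0 = 0 := by rw [he0]; linear_combination -i1
  let U : Subgroup Aˣ :=
    { carrier := {a | (a : A) * e0 = e0}
      one_mem' := one_mul e0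
      mul_mem' := fun {a b} (ha : _ = _) (hb : _ = _) => by
        show ((a * b : Aˣ) : A) * e0 = e0
        rw [Units.val_mul, mul_assoc, hb, ha]
      inv_mem' := fun {a} (ha : _ = _) => by
        show ((a⁻¹ : Aˣ) : A) * e0 = e0
        calc ((a⁻¹ : Aˣ) : A) * e0 = ((a⁻¹ : Aˣ) : A) * ((a : A) * e0) := by rw [ha]
          _ = e0 := by rw [← mul_assoc, Units.inv_mul, one_mul] }
  have hU : ∀ a : Aˣ, a ∈ U ↔ (a : A) * e0 = e0 := fun a => Iff.rfl
  let S : U →* U := ((Units.map σ.toRingHom.toMonoidHom).comp U.subtype).codRestrict U fun a => by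
    have h := congrArg σ ((hU a.1).1 a.2)
    rw [map_mul, hσ0] at h
    exact h
  have hS : ∀ a : U, ((S a : Aˣ) : A) = σ ((a : Aˣ) : A) := fun a => rfl
  have hSS : ∀ a, S (S a) = a := fun a => Subtype.ext (Units.ext (by rw [hS, hS, hσ]))
  let Nm : U →* U := MonoidHom.id U * S
  let D : U →* U := MonoidHom.id U / S
  have hNm : ∀ a, Nm a = a * S a := fun a => rfl
  have hD : ∀ a, D a = a / S a := fun a => rfl
  have hker : Nm.ker ≤ D.range := by
    intro b hb
    rw [MonoidHom.mem_ker, hNm] at hb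
    have hb1 : ((b : Aˣ) : A) * σ ((b : Aˣ) : A) = 1 := congrArg (fun u : U => ((u : Aˣ) : A)) hb
    obtain ⟨x, hx⟩ : ∃ x, x = ((b : Aˣ) : A) := ⟨_, rfl⟩
    rw [← hx] at hb1
    have hx0 : x * e0 = e0 := by rw [hx]; exact b.2
    obtain ⟨t, ht⟩ : ∃ t, t = 1 + x := ⟨_, rfl⟩
    obtain ⟨e, he⟩ : ∃ e, e = t ^ (N - 1) := ⟨_, rfl⟩
    obtain ⟨j1, j2⟩ := idem_pow hN hfrob t
    rw [← he] at j1 j2
    obtain ⟨two, htwo⟩ : ∃ two : A, two = algebraMap F A 2 := ⟨_, rfl⟩
    have htwo2 : two = 2 := by rw [htwo, map_ofNat]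
    obtain ⟨half, hhalf⟩ : ∃ half : A, two * half = 1 :=
      ⟨algebraMap F A 2⁻¹, by rw [htwo, ← map_mul, mul_inv_cancel₀ h2, map_one]⟩
    have hte0 : t * e0 = two * e0 := by rw [ht, htwo2]; linear_combination hx0
    have hee0 : e * e0 = e0 := by
      rw [he, ← (show IsIdempotentElem e0 from h00).pow_eq (show N - 1 ≠ 0 by omega), ← mul_pow, hte0, mul_pow,
        pow_eq_one_of_unit hN hfrob hhalf, one_mul]
    have hσe : σ e = e := by
      have hσt : σ t = σ x * t := by rw [ht, map_add, map_one]; linear_combination -hb1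
      rw [he, map_pow, hσt, mul_pow, pow_eq_one_of_unit hN hfrob (by rw [mul_comm]; exact hb1), one_mul]
    obtain ⟨a, ha⟩ : ∃ a, a = t * (1 - e0) + e0 + two * s * (1 - e) := ⟨_, rfl⟩
    obtain ⟨a', ha'⟩ : ∃ a', a' = e0 + t ^ (N - 2) * (e - e0) + half * s ^ (N - 2) * (1 - e) := ⟨_, rfl⟩
    have htt : t * t ^ (N - 2) = e := by rw [← pow_succ', show N - 2 + 1 = N - 1 by omega, he]
    have hss : s * s ^ (N - 2) = 1 - e0 := by
      rw [← pow_succ', show N - 2 + 1 = N - 1 by omega, ← he1, he0, sub_sub_cancel]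
    have hte : t * (1 - e) = 0 := by linear_combination -j2
    have a0 : a * e0 = e0 := by
      rw [ha]; linear_combination (1 - t) * h00 - two * s * hee0
    have a1 : a * (e - e0) = t * (e - e0) := by
      rw [ha]
      linear_combination (t - 1) * h00 + (1 - t) * hee0 + two * s * (hee0 - j1)
    have a2 : a * (1 - e) = two * s * (1 - e) := by
      rw [ha]
      linear_combination hte + two * s * j1 + (t - 1) * hee0
    have hinv : a * a' = 1 := by
      calc a * a' = a * e0 + t ^ (N - 2) * (a * (e - e0)) + half * s ^ (N - 2) * (a * (1 - e)) := by rw [ha']; ring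
        _ = e0 + t * t ^ (N - 2) * (e - e0) + two * half * (s * s ^ (N - 2)) * (1 - e) := by rw [a0, a1, a2]; ring
        _ = 1 := by rw [htt, hss, hhalf]; linear_combination j1
    have hfin : a = x * σ a := by
      have hxe : x * (1 - e) = -(1 - e) := by linear_combination hte - (1 - e) * ht
      have hσ2 : σ two = two := by rw [htwo, AlgHom.commutes]
      rw [ha]
      simp only [map_add, map_mul, map_sub, map_one, hσ0, hσ2, hs, hσe]
      rw [ht, map_add, map_one]
      linear_combination -(1 - e0) * hb1 - hx0 + two * s * hxe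
    refine ⟨⟨Units.mkOfMulEqOne a a' hinv, (hU _).2 a0⟩, ?_⟩
    rw [hD, div_eq_iff_eq_mul]
    refine Subtype.ext (Units.ext ?_)
    show a = ((b : Aˣ) : A) * σ a
    rw [← hx]; exact hfin
  have hDker : D.ker = S.eqLocus (MonoidHom.id U) := by
    ext a
    rw [MonoidHom.mem_ker, hD, div_eq_one]
    exact eq_comm
  have hle : Nm.range ≤ S.eqLocus (MonoidHom.id U) := by
    rintro _ ⟨a, rfl⟩
    show S (Nm a) = Nm a
    rw [hNm, map_mul, hSS, mul_comm]
  have hDle : D.range ≤ Nm.ker := by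
    rintro _ ⟨a, rfl⟩
    rw [MonoidHom.mem_ker, hNm, hD, map_div, hSS, div_mul_div_cancel, div_self']
  have hcard : Nat.card Nm.range = Nat.card (S.eqLocus (MonoidHom.id U)) := by
    have e1 := Subgroup.card_mul_index Nm.ker
    have e2 := Subgroup.card_mul_index D.ker
    rw [Subgroup.index_ker] at e1 e2
    rw [hDker, le_antisymm hDle hker] at e2
    have hp : 0 < Nat.card Nm.ker := Nat.card_pos
    exact Nat.eq_of_mul_eq_mul_left hp (by rw [e1, ← e2, mul_comm])
  have hu : ((c : F) • e1 + e0) * (((c⁻¹ : Fˣ) : F) • e1 + e0) = 1 := by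
    have hc : algebraMap F A c * algebraMap F A ((c⁻¹ : Fˣ) : F) = 1 := by rw [← map_mul, Units.mul_inv, map_one]
    rw [Algebra.smul_def, Algebra.smul_def]
    linear_combination e1 * e1 * hc + i1 + (algebraMap F A c + algebraMap F A ((c⁻¹ : Fˣ) : F)) * h10 + h00 + he0
  have hue : Units.mkOfMulEqOne _ _ hu ∈ U := (hU _).2 (by
    show ((c : F) • e1 + e0) * e0 = e0
    rw [Algebra.smul_def]
    linear_combination algebraMap F A c * h10 + h00)
  obtain ⟨a, ha⟩ : (⟨_, hue⟩ : U) ∈ Nm.range := by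
    rw [Subgroup.eq_of_le_of_card_ge hle hcard.ge]
    refine Subtype.ext (Units.ext ?_)
    show σ ((c : F) • e1 + e0) = (c : F) • e1 + e0
    rw [map_add, map_smul, hσ1, hσ0]
  refine ⟨((a : Aˣ) : A), ?_⟩
  have h := congrArg (fun u : U => ((u : Aˣ) : A) * e1) ha
  simp only [hNm] at h
  refine Eq.trans h ?_
  show ((c : F) • e1 + e0) * e1 = _
  rw [Algebra.smul_def]
  linear_combination algebraMap F A c * i1 + h10

end CfsgLib.Orth.SemiCent
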