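import Cfsg.Agent.Lib.Orth.SemiCent.Proj
import Cfsg.Agent.Lib.Orth.PGOQuot
import Cfsg.Agent.Lib.Orth.Facts
import Cfsg.Agent.Lib.Perm.Asch.Forms.OCongr

/-!
# Similarities of every multiplier commuting with a semisimple isometry of odd prime order
-/

set_option autoImplicit false
set_option linter.all false

namespace CfsgLib.Orth.SemiCent

open scoped Matrix
open Matrix Cfsg.Geo CfsgLib.Perm.Asch CfsgLib.Perm.Trans CfsgLib.Perm.Trans.Quad

universe u

variable {ι : Type} [Fintype ι] [DecidableEq ι] {F : Type u} [Field F] [Fintype F]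
variable {Q : (ι → F) → F} {A : Type u} [CommRing A] [Algebra F A] [Finite A] {u : GL ι F} {r : ℕ}

local notation "pol" => QuadraticMap.polar

variable (hQ : IsNondegenerateQuadraticForm Q)
include hQ

/-- a form that is non-degenerate on a subspace has non-singular matrix in any of its bases -/
theorem gram_ne {W : Submodule F (ι → F)} {d : ℕ} (b : Module.Basis (Fin d) F W) (S : Matrix ι ι F)
    (h : ∀ x ∈ W, (∀ y ∈ W, pol Q (S *ᵥ x) y = 0) → x = 0) :
    (Matrix.of fun i j => pol Q (S *ᵥ (b i : ι → F)) (b j)).det ≠ 0 := by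
  intro h0
  obtain ⟨c, hc, hc0⟩ := Matrix.exists_vecMul_eq_zero_iff.2 h0
  refine hc (funext fun i => Fintype.linearIndependent_iff.1 b.linearIndependent c ?_ i)
  refine Subtype.ext ?_
  rw [Submodule.coe_sum, ZeroMemClass.coe_zero]
  refine h _ (Submodule.sum_mem _ fun i _ => (c i • b i).2) fun y hy => ?_
  have hz : ∀ j, pol Q (S *ᵥ ∑ i, ((c i • b i : W) : ι → F)) (b j) = 0 := fun j => by
    have h1 : (c ᵥ* Matrix.of fun i j => pol Q (S *ᵥ (b i : ι → F)) (b j)) j = 0 := by rw [hc0]; rfl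
    simp only [Matrix.vecMul, dotProduct, Matrix.of_apply] at h1
    rw [mulVec_sum, ← h1]
    simp only [Submodule.coe_smul, mulVec_smul]
    exact pol_sum_left hQ _ _ _
  have hy' : y = ∑ j, b.repr ⟨y, hy⟩ j • (b j : ι → F) := by
    conv_lhs => rw [show y = ((⟨y, hy⟩ : W) : ι → F) from rfl, ← b.sum_repr ⟨y, hy⟩]
    simp only [Submodule.coe_sum, Submodule.coe_smul]
  rw [hy', pol_sum_right hQ]
  exact Finset.sum_eq_zero fun j _ => by rw [hz, mul_zero]

theorem range_idem (R : CycAlg Q A u r) {e : A} (he : e * e = e) {x : ι → F}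
    (hx : x ∈ LinearMap.range (Matrix.toLin' (R.rho e))) : R.rho e *ᵥ x = x := by
  obtain ⟨y, rfl⟩ := hx
  rw [Matrix.toLin'_apply, rho_mul_vec, he]

theorem exists_sim_commute (h2 : (2 : F) ≠ 0) (R : CycAlg Q A u r) (hr : Odd r) {k : ℕ}
    (hk : Fintype.card ι = k + k) (c : Fˣ) :
    ∃ g : GL ι F, (∀ v, Q ((g : Matrix ι ι F) *ᵥ v) = (c : F) * Q v) ∧ (g : Matrix ι ι F).det = (c : F) ^ k ∧
      g * u = u * g := by
  have hN := R.three_le
  obtain ⟨s, hs⟩ : ∃ s, s = R.gen - R.sig R.gen := ⟨_, rfl⟩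
  have hσs : R.sig s = -s := by rw [hs, map_sub, R.sig_sig]; ring
  obtain ⟨e1, he1⟩ : ∃ e1, e1 = s ^ (R.N - 1) := ⟨_, rfl⟩
  obtain ⟨i1, i2⟩ := idem_pow hN R.frob s
  rw [← he1] at i1 i2
  have hσ1 : R.sig e1 = e1 := by
    rw [he1, map_pow, hσs, Even.neg_pow (by obtain ⟨j, hj⟩ := R.odd_N; exact ⟨j, by omega⟩)]
  obtain ⟨e0, he0⟩ : ∃ e0, e0 = 1 - e1 := ⟨_, rfl⟩
  have h00 : e0 * e0 = e0 := by rw [he0]; linear_combination i1
  have hσ0 : R.sig e0 = e0 := by rw [he0, map_sub, map_one, hσ1]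
  have h10 : e1 * e0 = 0 := by rw [he0]; linear_combination -i1
  have hse0 : s * e0 = 0 := by rw [he0]; linear_combination -i2
  have hge0 : R.gen * e0 = e0 := by
    have h2' : R.gen * R.gen * e0 = e0 := by
      have h' := hse0
      rw [hs] at h'
      linear_combination R.gen * h' + e0 * R.sig_gen
    obtain ⟨j, hj⟩ := hr
    have h : R.gen ^ (2 * j + 1) = 1 := (congrArg (R.gen ^ ·) hj).symm.trans R.gen_pow
    have hp : (R.gen * R.gen) ^ (j + 1) * e0 = e0 := by
      induction (j + 1) with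
      | zero => rw [pow_zero, one_mul]
      | succ n ih => rw [pow_succ, mul_assoc, h2', ih]
    calc R.gen * e0 = R.gen * R.gen ^ (2 * j + 1) * e0 := by rw [h, mul_one]
      _ = (R.gen * R.gen) ^ (j + 1) * e0 := by ring
      _ = e0 := hp
  have hσge0 : R.sig R.gen * e0 = e0 := by
    have h := congrArg R.sig hge0
    rwa [map_mul, hσ0] at h
  obtain ⟨a, ha⟩ := exists_norm_eq hN R.frob R.sig R.sig_sig h2 R.odd_N hσs c
  rw [← he1] at ha
  obtain ⟨W0, hW0⟩ : ∃ W, W = LinearMap.range (Matrix.toLin' (R.rho e0)) := ⟨_, rfl⟩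
  obtain ⟨W1, hW1⟩ : ∃ W, W = LinearMap.range (Matrix.toLin' (R.rho e1)) := ⟨_, rfl⟩
  have m0 : ∀ x ∈ W0, R.rho e0 *ᵥ x = x := fun x hx => range_idem hQ R h00 (hW0 ▸ hx)
  have m1 : ∀ x ∈ W1, R.rho e1 *ᵥ x = x := fun x hx => range_idem hQ R i1 (hW1 ▸ hx)
  have hi0 : ∀ x, R.rho e0 *ᵥ x ∈ W0 := fun x => hW0 ▸ ⟨x, Matrix.toLin'_apply _ _⟩
  have hi1 : ∀ x, R.rho e1 *ᵥ x ∈ W1 := fun x => hW1 ▸ ⟨x, Matrix.toLin'_apply _ _⟩
  -- the dimension of the fixed part is even
  have hd1 : Even (Module.finrank F W1) := by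
    let b := Module.finBasis F W1
    have hdet := gram_ne hQ b (R.rho s) (fun x hx hxo => by
      have h1 : R.rho s *ᵥ x = 0 := by
        by_contra hne
        obtain ⟨-, y, hy⟩ := hQ.nondegenerate _ hne
        refine hy ?_
        have e : R.rho s *ᵥ x = R.rho e1 *ᵥ (R.rho s *ᵥ x) := by rw [rho_mul_vec, mul_comm, i2]
        rw [e, R.adj, hσ1]
        exact hxo _ (hi1 y)
      rw [← m1 x hx, he1, show R.N - 1 = R.N - 2 + 1 by omega, pow_succ, ← rho_mul_vec, h1, mulVec_zero])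
    have h := even_of_skew h2 (M := Matrix.of fun i j => pol Q (R.rho s *ᵥ (b i : ι → F)) (b j)) (by
      ext i j
      simp only [Matrix.transpose_apply, Matrix.neg_apply, Matrix.of_apply]
      rw [R.adj, hσs, map_neg, neg_mulVec, show -(R.rho s *ᵥ (b i : ι → F)) = (-1 : F) • (R.rho s *ᵥ (b i : ι → F)) by
        rw [neg_one_smul], psmul_right hQ, neg_one_mul, QuadraticMap.polar_comm]) hdet
    rwa [Fintype.card_fin] at h
  have hd0 : Even (Module.finrank F W0) := by
    have hker : LinearMap.ker (Matrix.toLin' (R.rho e0)) = W1 := by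
      ext x
      rw [LinearMap.mem_ker, Matrix.toLin'_apply]
      refine ⟨fun h => ?_, fun h => by rw [← m1 x h, rho_mul_vec, mul_comm, h10, map_zero, zero_mulVec]⟩
      have : R.rho e1 *ᵥ x = x := by
        rw [show e1 = 1 - e0 by rw [he0, sub_sub_cancel], map_sub, map_one, sub_mulVec, one_mulVec, h, sub_zero]
      exact this ▸ hi1 x
    have h := LinearMap.finrank_range_add_finrank_ker (Matrix.toLin' (R.rho e0))
    rw [hker, ← hW0, Module.finrank_fintype_fun_eq_card, hk] at h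
    exact (Nat.even_add.1 (h ▸ ⟨k, rfl⟩ : Even (Module.finrank F W0 + Module.finrank F W1))).2 hd1
  -- a similarity of the fixed part
  have hW0nd : ∀ x ∈ W0, (∀ y ∈ W0, pol Q ((1 : Matrix ι ι F) *ᵥ x) y = 0) → x = 0 := by
    intro x hx hxo
    by_contra hne
    obtain ⟨-, y, hy⟩ := hQ.nondegenerate x hne
    refine hy ?_
    rw [← m0 x hx, R.adj, hσ0]
    have h := hxo _ (hi0 y)
    rwa [one_mulVec] at h
  obtain ⟨g0, hg0⟩ : ∃ g0 : W0 →ₗ[F] W0, ∀ x : W0, Q (g0 x : ι → F) = (c : F) * Q x := by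
    let b := Module.finBasis F W0
    by_cases hd : Module.finrank F W0 = 0
    · refine ⟨0, fun x => ?_⟩
      have : (x : ι → F) = 0 := (Submodule.mem_bot F).1
        ((SetLike.ext_iff.1 (Submodule.finrank_eq_zero.1 hd : W0 = ⊥) _).1 x.2)
      rw [LinearMap.zero_apply, ZeroMemClass.coe_zero, this, qzero hQ, mul_zero]
    · haveI : Nonempty (Fin (Module.finrank F W0)) := ⟨⟨0, Nat.pos_of_ne_zero hd⟩⟩
      obtain ⟨G, hG⟩ : ∃ G : Matrix (Fin (Module.finrank F W0)) (Fin (Module.finrank F W0)) F,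
          G = Matrix.of fun i j => pol Q (b i : ι → F) (b j) := ⟨_, rfl⟩
      have hGs : Gᵀ = G := by
        ext i j; rw [hG, Matrix.transpose_apply, Matrix.of_apply, Matrix.of_apply, QuadraticMap.polar_comm]
      have hGd : G.det ≠ 0 := by
        have h := gram_ne hQ b 1 hW0nd
        simp only [one_mulVec] at h
        rwa [hG]
      obtain ⟨j, hj⟩ := hd0
      obtain ⟨P, hP⟩ := exists_congr_symm h2 hGs (B := (c : F) • G) (by rw [Matrix.transpose_smul, hGs]) hGd
        (by rw [Matrix.det_smul]; exact mul_ne_zero (pow_ne_zero _ c.ne_zero) hGd)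
        ⟨G.det * (c : F) ^ j, by
          rw [Matrix.det_smul, Fintype.card_fin,
            show (c : F) ^ Module.finrank F W0 = (c : F) ^ j * (c : F) ^ j from
              (congrArg ((c : F) ^ ·) hj).trans (pow_add _ _ _)]
          ring⟩
      refine ⟨Matrix.toLin b b (P : Matrix _ _ F), fun x => ?_⟩
      let B : LinearMap.BilinForm F W0 := LinearMap.BilinForm.comp (polBil hQ) W0.subtype W0.subtype
      have hB : LinearMap.BilinForm.comp B (Matrix.toLin b b (P : Matrix _ _ F)) (Matrix.toLin b b (P : Matrix _ _ F)) =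
          (c : F) • B := by
        refine LinearMap.BilinForm.ext_basis b fun i l => ?_
        show pol Q (Matrix.toLin b b (P : Matrix _ _ F) (b i) : ι → F) (Matrix.toLin b b (P : Matrix _ _ F) (b l)) =
          (c : F) * pol Q (b i : ι → F) (b l)
        have h := congrFun (congrFun hP i) l
        rw [Matrix.smul_apply, smul_eq_mul, hG, Matrix.of_apply] at h
        rw [← h, Matrix.toLin_self, Matrix.toLin_self]
        simp only [Submodule.coe_sum, Submodule.coe_smul, pol_sum_left hQ, pol_sum_right hQ, Matrix.mul_apply,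
          Matrix.transpose_apply, Matrix.of_apply, Finset.sum_mul, Finset.mul_sum]
        rw [Finset.sum_comm]
        exact Finset.sum_congr rfl fun q _ => Finset.sum_congr rfl fun q' _ => by ring
      refine mul_left_cancel₀ h2 ?_
      rw [mul_left_comm, ← pself hQ, ← pself hQ]
      exact LinearMap.congr_fun (LinearMap.congr_fun hB x) x
  obtain ⟨π, hπ⟩ : ∃ π : (ι → F) →ₗ[F] W0, π = (Matrix.toLin' (R.rho e0)).codRestrict W0 (fun x => by
      rw [Matrix.toLin'_apply]; exact hi0 x) := ⟨_, rfl⟩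
  obtain ⟨G, hG⟩ : ∃ G : Matrix ι ι F, G = R.rho (a * e1) + LinearMap.toMatrix' (W0.subtype ∘ₗ g0 ∘ₗ π) := ⟨_, rfl⟩
  have hGx : ∀ x, G *ᵥ x = R.rho (a * e1) *ᵥ x + (g0 (π x) : ι → F) := fun x => by
    rw [hG, add_mulVec, LinearMap.toMatrix'_mulVec]; rfl
  have hπx : ∀ x, (π x : ι → F) = R.rho e0 *ᵥ x := fun x => by rw [hπ]; exact Matrix.toLin'_apply _ _
  have hsim : ∀ x, Q (G *ᵥ x) = (c : F) * Q x := by
    intro x
    refine mul_left_cancel₀ h2 ?_
    rw [mul_left_comm, ← pself hQ, ← pself hQ, hGx]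
    have o1 : ∀ z (y : W0), pol Q (R.rho (a * e1) *ᵥ z) (y : ι → F) = 0 := fun z y => by
      rw [mul_comm, ← rho_mul_vec, R.adj, hσ1, ← m0 _ y.2, rho_mul_vec, h10, map_zero, zero_mulVec, pzero_right hQ]
    have q1 : pol Q (R.rho (a * e1) *ᵥ x) (R.rho (a * e1) *ᵥ x) = (c : F) * pol Q x (R.rho e1 *ᵥ x) := by
      rw [R.adj, map_mul R.sig, hσ1, rho_mul_vec,
        show R.sig a * e1 * (a * e1) = (c : F) • e1 by
          rw [Algebra.smul_def] at ha ⊢; linear_combination e1 * ha + algebraMap F A c * i1,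
        map_smul, smul_mulVec, psmul_right hQ]
    have q0 : pol Q (g0 (π x) : ι → F) (g0 (π x)) = (c : F) * pol Q x (R.rho e0 *ᵥ x) := by
      rw [pself hQ, hg0, hπx]
      rw [show pol Q x (R.rho e0 *ᵥ x) = pol Q (R.rho e0 *ᵥ x) (R.rho e0 *ᵥ x) by
        rw [R.adj, hσ0, rho_mul_vec, h00], pself hQ]
      ring
    rw [padd_left hQ, padd_right hQ, padd_right hQ, o1, QuadraticMap.polar_comm Q (g0 (π x) : ι → F), o1, q1, q0,
      add_zero, zero_add, ← mul_add, ← padd_right hQ, ← add_mulVec, ← map_add,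
      show e1 + e0 = 1 by rw [he0]; ring, map_one, one_mulVec]
  have hGd : G.det ≠ 0 := by
    intro h0
    have h := det_sq_sim hQ hsim
    rw [h0, mul_zero] at h
    exact (pow_ne_zero _ c.ne_zero) h.symm
  obtain ⟨g, hg⟩ : ∃ g : GL ι F, (g : Matrix ι ι F) = G :=
    ⟨Matrix.GeneralLinearGroup.mkOfDetNeZero _ hGd, rfl⟩
  have hgu : g * u = u * g := by
    refine Units.ext (Matrix.ext_iff_mulVec.2 fun x => ?_)
    rw [Units.val_mul, Units.val_mul, ← mulVec_mulVec, ← mulVec_mulVec, hg, ← R.rho_gen, hGx, hGx, mulVec_add,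
      rho_mul_vec, rho_mul_vec]
    have hp : π (R.rho R.gen *ᵥ x) = π x := Subtype.ext (by rw [hπx, hπx, rho_mul_vec, mul_comm, hge0])
    rw [hp, mul_comm (a * e1)]
    congr 1
    rw [← m0 _ (g0 (π x)).2, rho_mul_vec, hge0]
  by_cases h0 : e0 = 0
  · refine ⟨g, fun v => by rw [hg]; exact hsim v, ?_, hgu⟩
    have h11 : e1 = 1 := by rw [he0, sub_eq_zero] at h0; exact h0.symm
    refine det_of_skew_commute hQ h2 hk (S := R.rho s) ?_ (fun x y => ?_) (fun v => by rw [hg]; exact hsim v) ?_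
    · have h : R.rho s * R.rho (s ^ (R.N - 2)) = 1 := by
        rw [← map_mul, ← pow_succ', show R.N - 2 + 1 = R.N - 1 by omega, ← he1, h11, map_one]
      intro hd
      have := congrArg Matrix.det h
      rw [Matrix.det_mul, hd, zero_mul, Matrix.det_one] at this
      exact zero_ne_one this
    · rw [R.adj, hσs, map_neg, neg_mulVec, show -(R.rho s *ᵥ y) = (-1 : F) • (R.rho s *ᵥ y) by rw [neg_one_smul],
        psmul_right hQ, neg_one_mul]
    · have hz : LinearMap.toMatrix' (W0.subtype ∘ₗ g0 ∘ₗ π) = 0 := by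
        rw [show π = 0 from LinearMap.ext fun x => Subtype.ext (by
          rw [hπx, h0, map_zero, zero_mulVec]; rfl), LinearMap.comp_zero, LinearMap.comp_zero, map_zero]
      rw [hg, hG, hz, add_zero, ← map_mul, ← map_mul, mul_comm]
  · obtain ⟨v, hv, hv0⟩ := exists_aniso hQ h2 R h00 hσ0 h0
    obtain ⟨t, ht, htv⟩ := exists_refl hQ hv0
    have htu : t * u = u * t := by
      refine Units.ext (Matrix.ext_iff_mulVec.2 fun x => ?_)
      rw [Units.val_mul, Units.val_mul, ← mulVec_mulVec, ← mulVec_mulVec, htv, htv, mulVec_sub, mulVec_smul, ← R.rho_gen]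
      rw [show R.rho R.gen *ᵥ v = v by rw [← hv, rho_mul_vec, hge0], R.adj,
        show R.rho (R.sig R.gen) *ᵥ v = v by rw [← hv, rho_mul_vec, hσge0]]
    have hsq : g.1.det * g.1.det = (c : F) ^ k * (c : F) ^ k := by
      rw [det_sq_sim hQ (fun v => by rw [hg]; exact hsim v), hk, pow_add]
    rcases mul_self_eq_mul_self_iff.1 hsq with h | h
    · exact ⟨g, fun v => by rw [hg]; exact hsim v, h, hgu⟩
    · refine ⟨g * t, fun x => ?_, ?_, ?_⟩
      · rw [gl_mul_mulVec, hg, hsim, mem_iso.1 ht]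
      · rw [Units.val_mul, Matrix.det_mul, det_refl hQ htv hv0, h]; ring
      · rw [mul_assoc, htu, ← mul_assoc, hgu, mul_assoc]

end CfsgLib.Orth.SemiCent
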