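import Cfsg.Agent.Lib.Orth.SemiCent.RotCent
import Cfsg.Agent.Lib.Orth.SemiCent.SimCent

/-!
# Class fusion for semisimple elements of odd prime order, even dimension
-/

set_option autoImplicit false
set_option linter.all false

namespace CfsgLib.Orth.SemiCent

open scoped Matrix
open Matrix Cfsg.Geo CfsgLib.Perm.Asch CfsgLib.Perm.Trans CfsgLib.Perm.Trans.Quad

universe u

variable {ι : Type} [Fintype ι] [DecidableEq ι] {F : Type u} [Field F] [Fintype F]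
variable {Q : (ι → F) → F}

local notation "pol" => QuadraticMap.polar
local notation "Sim" => Cfsg.Geo.quadSimilarityGroup (F := F)

omit [Fintype ι] [DecidableEq ι] [Field F] [Fintype F] in
theorem conjUnder_iff_of_factor {X : Type*} [Group X] {H K : Subgroup X} (hle : H ≤ K) {x : X}
    (h : ∀ k ∈ K, ∃ a ∈ H, ∃ z, z * x = x * z ∧ k = a * z) (y : X) :
    Cfsg.IsConjUnder H x y ↔ Cfsg.IsConjUnder K x y := by
  constructor
  · rintro ⟨a, ha, hy⟩
    exact ⟨a, hle ha, hy⟩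
  · rintro ⟨k, hk, rfl⟩
    obtain ⟨a, ha, z, hz, rfl⟩ := h k hk
    exact ⟨a, ha, by rw [_root_.mul_inv_rev, mul_assoc a z x, hz]; group⟩

variable (hQ : IsNondegenerateQuadraticForm Q)
include hQ

/-- an element of odd prime order of the projective similarity group lifts to an isometry of the same order -/
theorem exists_iso_lift (hn : 5 ≤ Fintype.card ι) {x : MulAut (Cfsg.POmega F Q)} (hx : x ∈ Cfsg.pgoAut F Q) {r : ℕ}
    (hro : Odd r) (hxr : orderOf x = r) :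
    ∃ (u : GL ι F) (hu : u ∈ Cfsg.isometryGroup F Q), u ^ r = 1 ∧ simHom Q ⟨u, iso_sim hu⟩ = x := by
  have hn1 : 1 ≤ Fintype.card ι := by omega
  rw [pgoAut_eq] at hx
  obtain ⟨g, rfl⟩ := hx
  obtain ⟨d, hd⟩ := eq_scalarSim_of_ker hQ hn (g := g ^ r) (by rw [map_pow, ← hxr, pow_orderOf_eq_one])
  obtain ⟨j, hj⟩ := hro
  have hm := congrArg (simMult hQ hn1) hd
  rw [map_pow, simMult_scalar] at hm
  obtain ⟨t, ht⟩ : ∃ t, t = d * (simMult hQ hn1 g ^ j)⁻¹ := ⟨_, rfl⟩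
  have htt : simMult hQ hn1 g = t * t := by
    have e : simMult hQ hn1 g * (simMult hQ hn1 g ^ j * simMult hQ hn1 g ^ j) = d * d := by
      rw [← pow_add, ← pow_succ', ← two_mul, ← hj, hm]
    rw [ht, mul_mul_mul_comm, ← mul_inv, ← e, mul_inv_cancel_right]
  obtain ⟨w, hw⟩ : ∃ w, w = g * scalarSim hQ t⁻¹ := ⟨_, rfl⟩
  have hwm : simMult hQ hn1 w = 1 := by
    rw [hw, map_mul, simMult_scalar, htt, ← mul_inv, mul_inv_cancel]
  have hwx : simHom Q w = simHom Q g := by rw [hw, map_mul, scalar_mem_simHom_ker hQ hn, mul_one]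
  obtain ⟨e, he⟩ := eq_scalarSim_of_ker hQ hn (g := w ^ r) (by rw [map_pow, hwx, ← hxr, pow_orderOf_eq_one])
  have hee : e * e = 1 := by rw [← simMult_scalar hQ hn1 e, ← he, map_pow, hwm, one_pow]
  obtain ⟨u, hu⟩ : ∃ u, u = scalarSim hQ e * w := ⟨_, rfl⟩
  have hum : simMult hQ hn1 u = 1 := by rw [hu, map_mul, simMult_scalar, hee, hwm, one_mul]
  have hur : u ^ r = 1 := by
    have hcm : Commute (scalarSim hQ e) w := by
      refine Subtype.ext (Units.ext ?_)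
      show ((scalarSim hQ e).1 : Matrix ι ι F) * (w.1 : Matrix ι ι F) = (w.1 : Matrix ι ι F) * ((scalarSim hQ e).1 : Matrix ι ι F)
      rw [scalarSim_coe, smul_mul_assoc, one_mul, mul_smul_comm, mul_one]
    have h2 : scalarSim hQ e * scalarSim hQ e = 1 := by
      refine Subtype.ext (Units.ext ?_)
      show ((scalarSim hQ e).1 : Matrix ι ι F) * ((scalarSim hQ e).1 : Matrix ι ι F) = 1
      rw [scalarSim_coe, smul_mul_assoc, one_mul, smul_smul, ← Units.val_mul, hee, Units.val_one, one_smul]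
    rw [hu, hcm.mul_pow, he, hj, pow_succ, pow_mul, sq, h2, one_pow, one_mul, h2]
  refine ⟨u.1, (simMult_eq_one_iff hQ hn1 u).1 hum, congrArg Subtype.val hur, ?_⟩
  rw [show (⟨u.1, iso_sim ((simMult_eq_one_iff hQ hn1 u).1 hum)⟩ : ↥(Sim Q)) = u from rfl, hu, map_mul, hwx,
    scalar_mem_simHom_ker hQ hn, one_mul]

theorem semisimple_fusion (hn : 5 ≤ Fintype.card ι) (h2 : (2 : F) ≠ 0) {k : ℕ} (hk : Fintype.card ι = k + k)
    {x : MulAut (Cfsg.POmega F Q)} (hx : x ∈ Cfsg.pgoAut F Q) {r : ℕ} (hr : r.Prime) (hro : Odd r) (hrF : (r : F) ≠ 0)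
    (hxr : orderOf x = r) :
    (∀ y, (Cfsg.IsConjUnder (Cfsg.Inn (Cfsg.POmega F Q)) x y ↔ Cfsg.IsConjUnder (diagSub hQ (by omega) k) x y) ∧
      (Cfsg.IsConjUnder (Cfsg.psoAut F Q) x y ↔ Cfsg.IsConjUnder (diagSub hQ (by omega) k) x y)) ∧
    (∀ y, Cfsg.IsConjUnder (Cfsg.poAut F Q) x y ↔ Cfsg.IsConjUnder (Cfsg.pgoAut F Q) x y) := by
  haveI : Nonempty ι := Fintype.card_pos_iff.1 (by omega)
  have hn1 : 1 ≤ Fintype.card ι := by omega
  obtain ⟨u, hu, hur, rfl⟩ := exists_iso_lift hQ hn hx hro hxr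
  have hu1 : u ≠ 1 := by
    rintro rfl
    rw [show (⟨(1 : GL ι F), iso_sim hu⟩ : ↥(Sim Q)) = 1 from rfl, map_one, orderOf_one] at hxr
    exact hr.one_lt.ne hxr
  obtain ⟨A, _, _, _, ⟨R⟩⟩ := exists_cycAlg hQ h2 hu hr hur hrF
  have hg : ∀ c : Fˣ, ∃ g : ↥(Sim Q), simMult hQ hn1 g = c ∧ simSign hQ hn1 k g = 1 ∧
      simHom Q g * simHom Q ⟨u, iso_sim hu⟩ = simHom Q ⟨u, iso_sim hu⟩ * simHom Q g := by
    intro c
    obtain ⟨g, h1, h2', h3⟩ := exists_sim_commute hQ h2 R hro hk c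
    have hm : simMult hQ hn1 ⟨g, c, h1⟩ = c := simMult_eq hQ hn1 (g := ⟨g, c, h1⟩) h1
    refine ⟨⟨g, c, h1⟩, hm, (simSign_eq_one_iff hQ hn1 k _).2 (by rw [hm]; exact h2'), ?_⟩
    rw [← map_mul, ← map_mul]
    exact congrArg (simHom Q) (Subtype.ext h3)
  have hD : ∀ d ∈ diagSub hQ (by omega) k, ∃ a ∈ Cfsg.Inn (Cfsg.POmega F Q), ∃ z,
      z * simHom Q ⟨u, iso_sim hu⟩ = simHom Q ⟨u, iso_sim hu⟩ * z ∧ d = a * z := by
    rintro _ ⟨d, hd, rfl⟩
    obtain ⟨g, g1, g2, g3⟩ := hg (simMult hQ hn1 d)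
    have hm : simMult hQ hn1 (d * g⁻¹) = 1 := by rw [map_mul, map_inv, g1, mul_inv_cancel]
    have hs : simSign hQ hn1 k (d * g⁻¹) = 1 := by
      rw [map_mul, map_inv, g2, show simSign hQ hn1 k d = 1 from hd, inv_one, mul_one]
    have hi := (simMult_eq_one_iff hQ hn1 _).1 hm
    have hdet := (simSign_iso hQ hn1 k hi).1 hs
    by_cases hsp : spn Q (d * g⁻¹).1 = 1
    · exact ⟨_, (mem_inn_iff hQ hn h2 hk hi).2 ⟨hdet, Or.inl hsp⟩, _, g3, by
        rw [← map_mul]; exact congrArg (simHom Q) (inv_mul_cancel_right d g).symm⟩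
    · obtain ⟨w, hw, hwd, hws, hwu⟩ := exists_rot_commute hQ h2 R hu1 hro
      have hiw := mul_mem hi hw
      refine ⟨simHom Q ⟨(d * g⁻¹).1 * w, iso_sim hiw⟩, (mem_inn_iff hQ hn h2 hk hiw).2 ⟨?_, Or.inl ?_⟩,
        (simHom Q ⟨w, iso_sim hw⟩)⁻¹ * simHom Q g, ?_, ?_⟩
      · rw [Units.val_mul, Matrix.det_mul, hdet, hwd, one_mul]
      · rw [(spn_mul hQ (iso_le_reflGroup hQ (hex_of_two h2) hi) hw).1,
          (sqclass_cases h2 hsp (spn Q w)).resolve_left hws, sq_sqclass_eq_one]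
      · have hc : Commute (simHom Q ⟨w, iso_sim hw⟩) (simHom Q ⟨u, iso_sim hu⟩) := by
          rw [Commute, SemiconjBy, ← map_mul, ← map_mul]
          exact congrArg (simHom Q) (Subtype.ext hwu)
        exact hc.inv_left.mul_left g3
      · rw [show (⟨(d * g⁻¹).1 * w, iso_sim hiw⟩ : ↥(Sim Q)) = d * g⁻¹ * ⟨w, iso_sim hw⟩ from rfl, map_mul, mul_assoc,
          mul_inv_cancel_left, ← map_mul, inv_mul_cancel_right]
  refine ⟨fun y => ⟨?_, ?_⟩, fun y => ?_⟩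
  · exact conjUnder_iff_of_factor ((inn_le_psoAut hQ hn h2).trans (psoAut_le_diagSub hQ hn hk)) hD y
  · refine conjUnder_iff_of_factor (psoAut_le_diagSub hQ hn hk) (fun d hd => ?_) y
    obtain ⟨a, ha, h⟩ := hD d hd
    exact ⟨a, inn_le_psoAut hQ hn h2 ha, h⟩
  · refine conjUnder_iff_of_factor ?_ (fun d hd => ?_) y
    · rw [poAut_eq, pgoAut_eq]
      exact Subgroup.map_le_range _ _
    · rw [pgoAut_eq] at hd
      obtain ⟨d, rfl⟩ := hd
      obtain ⟨g, g1, -, g3⟩ := hg (simMult hQ hn1 d)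
      refine ⟨simHom Q (d * g⁻¹), ?_, _, g3, by rw [← map_mul, inv_mul_cancel_right]⟩
      rw [poAut_eq]
      exact ⟨d * g⁻¹, show (d * g⁻¹).1 ∈ Cfsg.isometryGroup F Q from
        (simMult_eq_one_iff hQ hn1 (d * g⁻¹)).1 (by rw [map_mul, map_inv, g1, mul_inv_cancel]), rfl⟩

end CfsgLib.Orth.SemiCent
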