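import Cfsg.Agent.Lib.Orth.SemiCent.Setup
import Cfsg.Agent.Lib.Orth.SemiCent.Alg

/-!
# A rotation of non-square spinor norm commuting with a semisimple isometry of odd prime order
-/

set_option autoImplicit false
set_option linter.all false

namespace CfsgLib.Orth.SemiCent

open scoped Matrix
open Matrix Cfsg.Geo CfsgLib.Perm.Asch CfsgLib.Perm.Trans CfsgLib.Perm.Trans.Quad

universe u

variable {ι : Type} [Fintype ι] [DecidableEq ι] {F : Type u} [Field F] [Fintype F]
variable {Q : (ι → F) → F} {A : Type u} [CommRing A] [Algebra F A] [Finite A] {u : GL ι F} {r : ℕ}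

local notation "pol" => QuadraticMap.polar

theorem nd_pow_ne {M : Type*} [MonoidWithZero M] {s : M} {n : ℕ} (h : s ^ n ≠ 0) (hn : n ≠ 0) : s ≠ 0 := fun h0 =>
  h (by rw [h0, zero_pow hn])

/-- `x ↦ rho a x` as a linear map in `a` -/
noncomputable def orbMap (R : CycAlg Q A u r) (v : ι → F) : A →ₗ[F] (ι → F) where
  toFun a := R.rho a *ᵥ v
  map_add' a b := by rw [map_add, add_mulVec]
  map_smul' c a := by rw [map_smul, smul_mulVec, RingHom.id_apply]

theorem orbMap_apply (R : CycAlg Q A u r) (v : ι → F) (a : A) : orbMap R v a = R.rho a *ᵥ v := rfl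

theorem rho_mul_vec (R : CycAlg Q A u r) (a b : A) (x : ι → F) : R.rho a *ᵥ (R.rho b *ᵥ x) = R.rho (a * b) *ᵥ x := by
  rw [map_mul, mulVec_mulVec]

variable (hQ : IsNondegenerateQuadraticForm Q)
include hQ

/-- a self-adjoint non-zero idempotent has an anisotropic fixed vector -/
theorem exists_aniso (h2 : (2 : F) ≠ 0) (R : CycAlg Q A u r) {e : A} (he : e * e = e) (hσ : R.sig e = e) (he0 : e ≠ 0) :
    ∃ v, R.rho e *ᵥ v = v ∧ Q v ≠ 0 := by
  by_contra hcon
  push Not at hcon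
  have h0 : ∀ x, Q (R.rho e *ᵥ x) = 0 := fun x => hcon _ (by rw [rho_mul_vec, he])
  refine he0 (R.inj ?_)
  rw [map_zero]
  refine eq_of_adj hQ fun x y => ?_
  rw [zero_mulVec, pzero_right hQ, ← he, map_mul, ← mulVec_mulVec]
  conv_lhs => rw [show R.rho e = R.rho (R.sig e) by rw [hσ], ← R.adj, hσ]
  simp only [QuadraticMap.polar, ← mulVec_add, h0, sub_self]

theorem adj_symm (R : CycAlg Q A u r) (a : A) (x y : ι → F) :
    pol Q (R.rho (R.sig a) *ᵥ x) y = pol Q x (R.rho a *ᵥ y) := by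
  rw [R.adj, R.sig_sig]

/-- the orthogonal projection onto an invariant non-degenerate subspace -/
theorem exists_proj (R : CycAlg Q A u r) {W : Submodule F (ι → F)}
    (hinv : ∀ a, ∀ x ∈ W, R.rho a *ᵥ x ∈ W) (hnd : ∀ x ∈ W, (∀ y ∈ W, pol Q x y = 0) → x = 0) :
    ∃ P : Matrix ι ι F, (∀ x, P *ᵥ x ∈ W) ∧ (∀ x ∈ W, P *ᵥ x = x) ∧ (∀ x y, pol Q (P *ᵥ x) y = pol Q x (P *ᵥ y)) ∧
      (∀ a, R.rho a * P = P * R.rho a) := by
  have hrefl : (polBil hQ).IsRefl := fun x y h => by
    show pol Q y x = 0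
    rw [QuadraticMap.polar_comm]; exact h
  have hdis : Disjoint W ((polBil hQ).orthogonal W) := by
    rw [Submodule.disjoint_def]
    intro x hx hxo
    refine hnd x hx fun y hy => ?_
    rw [QuadraticMap.polar_comm]; exact hxo y hy
  have hc := (LinearMap.BilinForm.isCompl_orthogonal_iff_disjoint hrefl).2 hdis
  obtain ⟨π, hπ⟩ : ∃ π : (ι → F) →ₗ[F] (ι → F), π = W.subtype ∘ₗ W.projectionOnto _ hc := ⟨_, rfl⟩
  have p1 : ∀ x, π x ∈ W := fun x => by rw [hπ]; exact (W.projectionOnto _ hc x).2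
  have p2 : ∀ x ∈ W, π x = x := fun x hx => by
    rw [hπ]
    exact congrArg Subtype.val (Submodule.projectionOnto_apply_left hc ⟨x, hx⟩)
  have p3 : ∀ x, ∀ w ∈ W, pol Q w (x - π x) = 0 := fun x w hw => by
    have h : x - π x ∈ (polBil hQ).orthogonal W := by
      have hk : W.projectionOnto _ hc (x - π x) = 0 := by
        refine Subtype.ext ?_
        rw [map_sub, show π x = ((W.projectionOnto _ hc x : W) : ι → F) by rw [hπ]; rfl,
          Submodule.projectionOnto_apply_left, sub_self]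
      exact (Submodule.projectionOnto_apply_eq_zero_iff hc).1 hk
    exact h w hw
  have p4 : ∀ x, ∀ z ∈ W, (∀ w ∈ W, pol Q w (x - z) = 0) → π x = z := fun x z hz h => by
    refine sub_eq_zero.1 (hnd _ (W.sub_mem (p1 x) hz) fun w hw => ?_)
    rw [QuadraticMap.polar_comm, show π x - z = (x - z) - (x - π x) by abel, psub_right hQ, h w hw, p3 x w hw, sub_self]
  have p5 : ∀ x y, pol Q (π x) y = pol Q (π x) (π y) := fun x y => by
    rw [← sub_eq_zero, ← psub_right hQ]; exact p3 y _ (p1 x)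
  refine ⟨LinearMap.toMatrix' π, fun x => ?_, fun x hx => ?_, fun x y => ?_, fun a => ?_⟩
  · rw [LinearMap.toMatrix'_mulVec]; exact p1 x
  · rw [LinearMap.toMatrix'_mulVec]; exact p2 x hx
  · rw [LinearMap.toMatrix'_mulVec, LinearMap.toMatrix'_mulVec]
    exact (p5 x y).trans ((QuadraticMap.polar_comm Q _ _).trans ((p5 y x).symm.trans (QuadraticMap.polar_comm Q _ _)))
  · refine Matrix.ext_iff_mulVec.2 fun x => ?_
    rw [← mulVec_mulVec, ← mulVec_mulVec, LinearMap.toMatrix'_mulVec, LinearMap.toMatrix'_mulVec]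
    refine (p4 _ _ (hinv a _ (p1 x)) fun w hw => ?_).symm
    rw [← mulVec_sub, ← adj_symm hQ]
    exact p3 x _ (hinv _ _ hw)

/-- `1 + rho (a - 1) P` -/
theorem one_add_mul {R : CycAlg Q A u r} {P : Matrix ι ι F} (hPP : P * P = P) (hcm : ∀ a, R.rho a * P = P * R.rho a)
    (a b : A) : (1 + R.rho (a - 1) * P) * (1 + R.rho (b - 1) * P) = 1 + R.rho (a * b - 1) * P := by
  have h : R.rho (a - 1) * P * (R.rho (b - 1) * P) = R.rho (a - 1) * R.rho (b - 1) * P := by
    rw [← mul_assoc, mul_assoc (R.rho (a - 1)) P, ← hcm, ← mul_assoc, mul_assoc _ P P, hPP]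
  rw [add_mul, one_mul, mul_add, mul_one, h, show a * b - 1 = (a - 1) + (b - 1) + (a - 1) * (b - 1) by ring,
    map_add, map_add, map_mul, add_mul, add_mul]
  abel

end CfsgLib.Orth.SemiCent
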