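import Cfsg.Agent.Lib.Orth.PGO
import Cfsg.Agent.Lib.FormClass.Symp
import Mathlib.LinearAlgebra.Determinant

/-!
# Rotations from an adjoint pair, and determinants of similarities commuting with a skew map

If `a`, `a'` are commuting and adjoint to each other and `a - 1` has its values in the range of `a' - a`, then
`a * a'⁻¹` is a rotation of spinor norm `det a`.
-/

set_option autoImplicit false
set_option linter.all false

namespace CfsgLib.Orth.SemiCent

open scoped Matrix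
open Matrix Cfsg.Geo CfsgLib.Perm.Asch CfsgLib.Perm.Trans CfsgLib.Perm.Trans.Quad CfsgLib.Classical.AltCongr

variable {ι : Type} [Fintype ι] [DecidableEq ι] {F : Type*} [Field F] [Fintype F]
variable {Q : (ι → F) → F}

local notation "pol" => QuadraticMap.polar

theorem det_J_one (m : ℕ) : (CfsgLib.FormCl.JM m F).det = 1 :=
  SymplecticGroup.det_eq_one (SymplecticGroup.J_mem _ _)

omit [Fintype F] in
theorem even_of_skew {κ : Type} [Fintype κ] [DecidableEq κ] (h2 : (2 : F) ≠ 0) {M : Matrix κ κ F}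
    (hM : Mᵀ = -M) (hd : M.det ≠ 0) : Even (Fintype.card κ) := by
  by_contra hodd
  rw [Nat.not_even_iff_odd] at hodd
  have h := congrArg Matrix.det hM
  rw [Matrix.det_transpose, Matrix.det_neg, hodd.neg_one_pow] at h
  exact hd ((mul_eq_zero.1 (show (2 : F) * M.det = 0 by linear_combination h)).resolve_left h2)

theorem isSquare_det_alt {κ : Type} [Fintype κ] [DecidableEq κ] (h2 : (2 : F) ≠ 0) {M : Matrix κ κ F}
    (hM : IsAltM M) (hd : M.det ≠ 0) : IsSquare M.det := by
  obtain ⟨m, hm⟩ := even_of_skew h2 hM.2 hd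
  obtain ⟨c, s, hc, hs, hdet⟩ := (CfsgLib.FormCl.alt_cong_JM (m := m) M (by omega) hM hd).det_eq
  rw [det_J_one, hm, pow_add] at hdet
  refine ⟨(c ^ m * s)⁻¹, ?_⟩
  have h0 : c ^ m * s ≠ 0 := mul_ne_zero (pow_ne_zero _ hc) hs
  field_simp
  linear_combination -hdet

variable (hQ : IsNondegenerateQuadraticForm Q)
include hQ

/-- the polar form as a bilinear map -/
noncomputable def polBil : LinearMap.BilinForm F (ι → F) :=
  LinearMap.mk₂ F (fun x y => pol Q x y) (padd_left hQ) (fun r x y => psmul_left hQ r x y) (padd_right hQ)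
    (fun r x y => psmul_right hQ r x y)

/-- the Gram matrix of the polar form -/
noncomputable def gramM : Matrix ι ι F := LinearMap.BilinForm.toMatrix' (polBil hQ)

omit [Fintype F] in
theorem gramM_det_ne : (gramM hQ).det ≠ 0 := by
  refine (LinearMap.BilinForm.nondegenerate_iff_det_ne_zero (Pi.basisFun F ι)).1 ?_
  refine ⟨fun x hx => ?_, fun x hx => ?_⟩ <;> by_contra hne
  · obtain ⟨-, y, hy⟩ := hQ.nondegenerate x hne
    exact hy (hx y)
  · obtain ⟨⟨y, hy⟩, -⟩ := hQ.nondegenerate x hne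
    exact hy (hx y)

omit [Fintype F] in
/-- adjoint maps have the same determinant -/
theorem det_adj {a a' : Matrix ι ι F} (h : ∀ x y, pol Q (a *ᵥ x) y = pol Q x (a' *ᵥ y)) : a'.det = a.det := by
  have h1 : LinearMap.BilinForm.comp (polBil hQ) (Matrix.toLin' a) LinearMap.id =
      LinearMap.BilinForm.comp (polBil hQ) LinearMap.id (Matrix.toLin' a') := by
    refine LinearMap.ext₂ fun x y => ?_
    show pol Q (Matrix.toLin' a x) y = pol Q x (Matrix.toLin' a' y)
    simp only [Matrix.toLin'_apply, h]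
  have h2 := congrArg (fun N => (LinearMap.BilinForm.toMatrix' N).det) h1
  simp only [LinearMap.BilinForm.toMatrix'_comp, LinearMap.toMatrix'_toLin', LinearMap.toMatrix'_id, Matrix.det_mul,
    Matrix.det_transpose, Matrix.det_one, mul_one, one_mul] at h2
  exact mul_left_cancel₀ (gramM_det_ne hQ) (by unfold gramM; linear_combination -h2)

/-- a similarity commuting with an invertible skew map -/
theorem det_of_skew_commute (h2 : (2 : F) ≠ 0) {k : ℕ} (hk : Fintype.card ι = k + k) {S : Matrix ι ι F}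
    (hS : S.det ≠ 0) (hskew : ∀ x y, pol Q (S *ᵥ x) y = -pol Q x (S *ᵥ y)) {g : GL ι F} {c : Fˣ}
    (hg : ∀ v, Q ((g : Matrix ι ι F) *ᵥ v) = (c : F) * Q v) (hcomm : S * (g : Matrix ι ι F) = (g : Matrix ι ι F) * S) :
    (g : Matrix ι ι F).det = (c : F) ^ k := by
  obtain ⟨B, hB⟩ : ∃ B, B = LinearMap.BilinForm.comp (polBil hQ) (Matrix.toLin' S) LinearMap.id := ⟨_, rfl⟩
  obtain ⟨M, hM⟩ : ∃ M, M = LinearMap.BilinForm.toMatrix' B := ⟨_, rfl⟩
  have hMa : ∀ i j, M i j = pol Q (S *ᵥ Pi.single i 1) (Pi.single j 1) := fun i j => by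
    rw [hM, LinearMap.BilinForm.toMatrix'_apply, hB]
    show pol Q (Matrix.toLin' S (Pi.single i 1)) _ = _
    rw [Matrix.toLin'_apply]
    rfl
  have halt : IsAltM M := by
    refine ⟨fun i => ?_, Matrix.ext fun i j => ?_⟩
    · rw [hMa]
      have h := hskew (Pi.single i 1) (Pi.single i 1)
      rw [QuadraticMap.polar_comm Q (Pi.single i 1) (S *ᵥ Pi.single i 1)] at h
      exact (mul_eq_zero.1 (by linear_combination h)).resolve_left h2
    · rw [Matrix.transpose_apply, Matrix.neg_apply, hMa, hMa, hskew, QuadraticMap.polar_comm Q (Pi.single j 1)]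
  have hMd : M.det ≠ 0 := by
    rw [hM, hB, LinearMap.BilinForm.toMatrix'_comp, LinearMap.toMatrix'_toLin', LinearMap.toMatrix'_id, mul_one,
      Matrix.det_mul, Matrix.det_transpose]
    exact mul_ne_zero hS (gramM_det_ne hQ)
  refine (CfsgLib.FormCl.det_mult_alt (CfsgLib.FormCl.alt_cong_JM (m := k) M (by omega) halt hMd)).1 g c ?_
  have hcomp : LinearMap.BilinForm.comp B (Matrix.toLin' (g : Matrix ι ι F)) (Matrix.toLin' (g : Matrix ι ι F)) =
      (c : F) • B := by
    refine LinearMap.ext₂ fun x y => ?_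
    rw [hB]
    show pol Q (Matrix.toLin' S (Matrix.toLin' (g : Matrix ι ι F) x)) (Matrix.toLin' (g : Matrix ι ι F) y) =
      (c : F) * pol Q (Matrix.toLin' S x) y
    simp only [Matrix.toLin'_apply]
    rw [Matrix.mulVec_mulVec, hcomm, ← Matrix.mulVec_mulVec]
    simp only [QuadraticMap.polar, ← mulVec_add, hg]
    ring
  show (g : Matrix ι ι F)ᵀ * M * (g : Matrix ι ι F) = (c : F) • M
  rw [hM, ← map_smul, ← hcomp, LinearMap.BilinForm.toMatrix'_comp, LinearMap.toMatrix'_toLin']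

/-- the rotation attached to an adjoint pair -/
theorem rot_of_pair (h2 : (2 : F) ≠ 0) {a a' : GL ι F}
    (hadj : ∀ x y, pol Q ((a : Matrix ι ι F) *ᵥ x) y = pol Q x ((a' : Matrix ι ι F) *ᵥ y))
    (hcomm : a * a' = a' * a)
    (hU : ∀ x, ∃ y, (a : Matrix ι ι F) *ᵥ x - x = (a' : Matrix ι ι F) *ᵥ y - (a : Matrix ι ι F) *ᵥ y) :
    (a * a'⁻¹) ∈ Cfsg.isometryGroup F Q ∧ ((a * a'⁻¹ : GL ι F) : Matrix ι ι F).det = 1 ∧
      spn Q (a * a'⁻¹) = sqc (a : Matrix ι ι F).det := by
  have hadj' : ∀ x y, pol Q ((a' : Matrix ι ι F) *ᵥ x) y = pol Q x ((a : Matrix ι ι F) *ᵥ y) := fun x y => by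
    rw [QuadraticMap.polar_comm Q, ← hadj, QuadraticMap.polar_comm Q]
  have hda : (a : Matrix ι ι F).det ≠ 0 := ((Matrix.isUnit_iff_isUnit_det _).1 a.isUnit).ne_zero
  obtain ⟨w, hw⟩ : ∃ w : GL ι F, w = a * a'⁻¹ := ⟨_, rfl⟩
  have hwz : ∀ z, (w : Matrix ι ι F) *ᵥ ((a' : Matrix ι ι F) *ᵥ z) = (a : Matrix ι ι F) *ᵥ z := fun z => by
    rw [← gl_mul_mulVec, hw, inv_mul_cancel_right]
  have hsurj : ∀ x : ι → F, ∃ z, x = (a' : Matrix ι ι F) *ᵥ z := fun x =>
    ⟨((a'⁻¹ : GL ι F) : Matrix ι ι F) *ᵥ x, by rw [← gl_mul_mulVec, mul_inv_cancel, Units.val_one, one_mulVec]⟩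
  have hiso : w ∈ Cfsg.isometryGroup F Q := by
    refine mem_iso.2 fun x => ?_
    obtain ⟨z, rfl⟩ := hsurj x
    rw [hwz]
    refine mul_left_cancel₀ h2 ?_
    rw [← pself hQ, ← pself hQ, hadj, hadj', ← gl_mul_mulVec, ← gl_mul_mulVec, hcomm]
  have hdet : (w : Matrix ι ι F).det = 1 := by
    have h := congrArg (fun g : GL ι F => (g : Matrix ι ι F).det) (show w * a' = a by rw [hw, inv_mul_cancel_right])
    simp only [Units.val_mul, Matrix.det_mul, det_adj hQ hadj] at h
    exact mul_right_cancel₀ hda (h.trans (one_mul _).symm)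
  rw [← hw]
  refine ⟨hiso, hdet, ?_⟩
  obtain ⟨z, hli, hsp⟩ := exists_frame w
  obtain ⟨-, hspn⟩ := spn_eq_det hQ hiso hli hsp
  choose y hy using fun i => hsurj (z i)
  have hd : ∀ t, disp w ((a' : Matrix ι ι F) *ᵥ t) = (a' : Matrix ι ι F) *ᵥ t - (a : Matrix ι ι F) *ᵥ t := fun t => by
    rw [disp_apply, hwz]
  have hmem : ∀ u ∈ moved w, (a : Matrix ι ι F) *ᵥ u ∈ moved w := by
    rintro u ⟨x, rfl⟩
    obtain ⟨t, rfl⟩ := hsurj x
    refine ⟨(a' : Matrix ι ι F) *ᵥ ((a : Matrix ι ι F) *ᵥ t), ?_⟩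
    rw [hd, hd, mulVec_sub, ← gl_mul_mulVec, ← gl_mul_mulVec, ← gl_mul_mulVec, hcomm]
  have hbs : Submodule.span F (Set.range fun i => disp w (z i)) = moved w :=
    le_antisymm (Submodule.span_le.2 (Set.range_subset_iff.2 fun i => ⟨z i, rfl⟩)) hsp
  obtain ⟨b, hb⟩ : ∃ b : Module.Basis (Fin (wrk w)) F (moved w), ∀ i, (b i : ι → F) = disp w (z i) := by
    refine ⟨(Module.Basis.span hli).map (LinearEquiv.ofEq _ _ hbs), fun i => ?_⟩
    rw [Module.Basis.map_apply, LinearEquiv.coe_ofEq_apply, Module.Basis.span_apply]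
  obtain ⟨T, hT⟩ : ∃ T : moved w →ₗ[F] moved w, T = (Matrix.toLin' (a : Matrix ι ι F)).restrict
      (fun u hu => by rw [Matrix.toLin'_apply]; exact hmem u hu) := ⟨_, rfl⟩
  have hTd : LinearMap.det T = (a : Matrix ι ι F).det := by
    have hle : moved w ≤ (moved w).comap (Matrix.toLin' (a : Matrix ι ι F)) := fun u hu => by
      rw [Submodule.mem_comap, Matrix.toLin'_apply]; exact hmem u hu
    have h := LinearMap.det_eq_det_mul_det (moved w) (Matrix.toLin' (a : Matrix ι ι F)) hle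
    have hq : (moved w).mapQ (moved w) (Matrix.toLin' (a : Matrix ι ι F)) hle = LinearMap.id := by
      refine Submodule.linearMap_qext _ (LinearMap.ext fun x => ?_)
      show Submodule.Quotient.mk (Matrix.toLin' (a : Matrix ι ι F) x) = Submodule.Quotient.mk x
      rw [Submodule.Quotient.eq, Matrix.toLin'_apply]
      obtain ⟨t, ht⟩ := hU x
      exact ⟨(a' : Matrix ι ι F) *ᵥ t, by rw [hd, ht]⟩
    rw [hq, LinearMap.det_id, mul_one, LinearMap.det_toLin'] at h
    rw [hT]; exact h.symm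
  obtain ⟨A, hA⟩ : ∃ A, A = LinearMap.toMatrix b b T := ⟨_, rfl⟩
  obtain ⟨M, hM⟩ : ∃ M : Matrix (Fin (wrk w)) (Fin (wrk w)) F, M = Matrix.of fun i j => pol Q (y i) (disp w (z j)) :=
    ⟨_, rfl⟩
  have hcol : ∀ j, (a : Matrix ι ι F) *ᵥ disp w (z j) = ∑ i, A i j • disp w (z i) := fun j => by
    have h : T (b j) = ∑ i, A i j • b i := by
      rw [hA]
      simp only [LinearMap.toMatrix_apply]
      exact (b.sum_repr _).symm
    have h' := congrArg Subtype.val h
    simp only [Submodule.coe_sum, Submodule.coe_smul, hb] at h'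
    rw [← h', hT]
    show _ = Matrix.toLin' (a : Matrix ι ι F) (b j : ι → F)
    rw [Matrix.toLin'_apply, hb]
  have hwm : wallMat Q w z = M * A := by
    ext i j
    rw [Matrix.mul_apply]
    show pol Q (z i) (disp w (z j)) = _
    rw [hy i, hadj', hcol, pol_sum_right hQ]
    exact Finset.sum_congr rfl fun l _ => by rw [hM, Matrix.of_apply, mul_comm]
  have hwd := wallMat_det_ne hQ hiso hli hsp
  rw [hwm, Matrix.det_mul] at hwd
  have halt : IsAltM M := by
    have he : ∀ i, disp w (z i) = (a' : Matrix ι ι F) *ᵥ y i - (a : Matrix ι ι F) *ᵥ y i := fun i => by rw [hy i, hd]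
    refine ⟨fun i => ?_, Matrix.ext fun i j => ?_⟩
    · rw [hM, Matrix.of_apply, he, psub_right hQ, ← hadj, QuadraticMap.polar_comm Q, sub_self]
    · simp only [hM, Matrix.transpose_apply, Matrix.neg_apply, Matrix.of_apply, he, psub_right hQ, ← hadj, ← hadj']
      rw [show pol Q ((a : Matrix ι ι F) *ᵥ y j) (y i) = pol Q ((a' : Matrix ι ι F) *ᵥ y i) (y j) from
          (hadj _ _).trans (QuadraticMap.polar_comm Q _ _),
        show pol Q ((a' : Matrix ι ι F) *ᵥ y j) (y i) = pol Q ((a : Matrix ι ι F) *ᵥ y i) (y j) from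
          (hadj' _ _).trans (QuadraticMap.polar_comm Q _ _)]
      ring
  have hMd : M.det ≠ 0 := left_ne_zero_of_mul hwd
  have hAd : A.det = (a : Matrix ι ι F).det := by rw [hA, LinearMap.det_toMatrix, hTd]
  rw [hspn, hwm, Matrix.det_mul, sqc_mul hMd (right_ne_zero_of_mul hwd), (sqc_eq_one_iff hMd).2 (isSquare_det_alt h2 halt hMd),
    one_mul, hAd]

end CfsgLib.Orth.SemiCent
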