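import Cfsg.Agent.Lib.Orth.SemiCent.Proj
import Cfsg.Agent.Lib.Orth.PGOQuot

/-!
# A rotation of non-square spinor norm commuting with a semisimple isometry of odd prime order
-/

set_option autoImplicit false
set_option linter.all false

namespace CfsgLib.Orth.SemiCent

open scoped Matrix
open Matrix Cfsg.Geo CfsgLib.Perm.Asch CfsgLib.Perm.Trans CfsgLib.Perm.Trans.Quad

universe u

variable {ι : Type} [Fintype ι] [DecidableEq ι] {F : Type u} [Field F] [Fintype F]
variable {Q : (ι → F) → F} {A : Type u} [CommRing A] [Algebra F A] [Finite A] {u : GL ι F} {r : ℕ}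

local notation "pol" => QuadraticMap.polar

theorem idem_eq_or {N : ℕ} {h g : A} (hh : h * h = h) (hmin : ∀ f : A, f * f = f → f * h = f → f = 0 ∨ f = h)
    (hg : g * g = g) : g * h = 0 ∨ g * h = h :=
  hmin _ (by linear_combination h * h * hg + g * hh) (by linear_combination g * hh)

variable (hQ : IsNondegenerateQuadraticForm Q)
include hQ

theorem exists_rot_commute (h2 : (2 : F) ≠ 0) (R : CycAlg Q A u r) (hu1 : u ≠ 1) (hr : Odd r) :
    ∃ w ∈ Cfsg.isometryGroup F Q, (w : Matrix ι ι F).det = 1 ∧ spn Q w ≠ 1 ∧ w * u = u * w := by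
  have hN := R.three_le
  obtain ⟨s, hs⟩ : ∃ s, s = R.gen - R.sig R.gen := ⟨_, rfl⟩
  have hσs : R.sig s = -s := by rw [hs, map_sub, R.sig_sig]; ring
  obtain ⟨e1, he1⟩ : ∃ e1, e1 = s ^ (R.N - 1) := ⟨_, rfl⟩
  obtain ⟨i1, i2⟩ := idem_pow hN R.frob s
  rw [← he1] at i1 i2
  have hσ1 : R.sig e1 = e1 := by
    rw [he1, map_pow, hσs, Even.neg_pow (by obtain ⟨j, hj⟩ := R.odd_N; exact ⟨j, by omega⟩)]
  have he10 : e1 ≠ 0 := by
    intro h0
    rw [h0, mul_zero] at i2
    rw [hs, eq_comm, sub_eq_zero] at i2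
    have hsg := R.sig_gen
    rw [← i2] at hsg
    refine hu1 (Units.ext ?_)
    rw [← R.rho_gen, Units.val_one, ← map_one R.rho]
    obtain ⟨j, hj⟩ := hr
    have h : R.gen ^ (2 * j + 1) = 1 := (congrArg (R.gen ^ ·) hj).symm.trans R.gen_pow
    rw [pow_succ, pow_mul, sq, hsg, one_pow, one_mul] at h
    exact congrArg R.rho h
  obtain ⟨h0, hh, hh0, hhe, hmin⟩ := exists_minIdem hN R.frob i1 he10
  obtain ⟨h1, hh1⟩ : ∃ h1, h1 = R.sig h0 := ⟨_, rfl⟩
  have h11 : h1 * h1 = h1 := by rw [hh1, ← map_mul, hh]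
  have hσh1 : R.sig h1 = h0 := by rw [hh1, R.sig_sig]
  have hmin1 : ∀ f : A, f * f = f → f * h1 = f → f = 0 ∨ f = h1 := fun f hf hfh => by
    rcases hmin (R.sig f) (by rw [← map_mul, hf]) (by rw [← hσh1, ← map_mul, hfh]) with h | h
    · left; rw [← R.sig_sig f, h, map_zero]
    · right; rw [← R.sig_sig f, h, hh1]
  obtain ⟨f, hf⟩ : ∃ f, f = h0 + h1 - h0 * h1 := ⟨_, rfl⟩
  have hfh0 : h0 * f = h0 := by rw [hf]; linear_combination (1 - h1) * hh
  have hfh1 : h1 * f = h1 := by rw [hf]; linear_combination (1 - h0) * h11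
  have hff : f * f = f := by rw [hf] at hfh0 hfh1 ⊢; linear_combination (1 - h1) * hfh0 + hfh1
  have hσf : R.sig f = f := by rw [hf, map_sub, map_add, map_mul, hσh1, ← hh1]; ring
  have hf0 : f ≠ 0 := fun h => hh0 (by rw [← hfh0, h, mul_zero])
  obtain ⟨v, hfv, hv⟩ := exists_aniso hQ h2 R hff hσf hf0
  have hφ : ∀ h : A, h * h = h → h * f = h → h ≠ 0 → pol Q v (R.rho h *ᵥ v) ≠ 0 := by
    intro h hi hf' hne
    have hpf : pol Q v (R.rho f *ᵥ v) = 2 * Q v := by rw [hfv, pself hQ]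
    have h2v : 2 * Q v ≠ 0 := mul_ne_zero h2 hv
    rcases idem_eq_or (N := R.N) hh hmin h11 with hp | hp
    · have hfs : f = h0 + h1 := by rw [hf, mul_comm h0, hp, sub_zero]
      have hsymm : pol Q v (R.rho h1 *ᵥ v) = pol Q v (R.rho h0 *ᵥ v) := by
        rw [hh1, ← R.adj, QuadraticMap.polar_comm]
      have hsum : pol Q v (R.rho h0 *ᵥ v) + pol Q v (R.rho h0 *ᵥ v) = 2 * Q v := by
        rw [← hpf, hfs, map_add, add_mulVec, padd_right hQ, hsymm]
      have hd : h = h * h0 + h * h1 := by rw [← mul_add, ← hfs, hf']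
      rcases idem_eq_or (N := R.N) hh hmin hi with ha | ha <;>
        rcases idem_eq_or (N := R.N) h11 hmin1 hi with hb | hb <;> rw [ha, hb] at hd
      · exact absurd (by rw [hd, add_zero]) hne
      · rw [hd, zero_add, hsymm]
        intro hz
        rw [hz, add_zero] at hsum
        exact h2v hsum.symm
      · rw [hd, add_zero]
        intro hz
        rw [hz, add_zero] at hsum
        exact h2v hsum.symm
      · rw [hd, ← hfs, hpf]; exact h2v
    · have h10 : h1 = h0 := by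
        rcases idem_eq_or (N := R.N) h11 hmin1 hh with hq | hq
        · rw [mul_comm, hp] at hq; exact absurd hq hh0
        · rw [← hq, mul_comm, hp]
      have hfs : f = h0 := by rw [hf, h10, hh]; ring
      rw [hfs] at hf' hpf
      rcases hmin h hi hf' with e | e
      · exact absurd e hne
      · rw [e, hpf]; exact h2v
  obtain ⟨W, hW⟩ : ∃ W, W = LinearMap.range (orbMap R v) := ⟨_, rfl⟩
  have hWmem : ∀ a, R.rho a *ᵥ v ∈ W := fun a => hW ▸ ⟨a, rfl⟩
  have hWinv : ∀ a, ∀ x ∈ W, R.rho a *ᵥ x ∈ W := by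
    intro a x hx
    rw [hW] at hx
    obtain ⟨b, rfl⟩ := hx
    rw [orbMap_apply, rho_mul_vec]
    exact hWmem _
  have hWf : ∀ x ∈ W, R.rho f *ᵥ x = x := by
    intro x hx
    rw [hW] at hx
    obtain ⟨b, rfl⟩ := hx
    rw [orbMap_apply, rho_mul_vec, mul_comm, ← rho_mul_vec, hfv]
  have hWnd : ∀ x ∈ W, (∀ y ∈ W, pol Q x y = 0) → x = 0 := by
    intro x hx hxo
    rw [hW] at hx
    obtain ⟨b, rfl⟩ := hx
    rw [orbMap_apply] at hxo ⊢
    have hxf : R.rho (b * f) *ᵥ v = R.rho b *ᵥ v := by rw [← rho_mul_vec, hfv]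
    by_cases hbf : b * f = 0
    · rw [← hxf, hbf, map_zero, zero_mulVec]
    · exfalso
      obtain ⟨j1, j2⟩ := idem_pow hN R.frob (b * f)
      refine hφ _ j1 ?_ (fun h => hbf (by rw [← j2, h, mul_zero])) ?_
      · rw [mul_pow, (show IsIdempotentElem f from hff).pow_eq (by omega), mul_assoc, hff]
      · rw [show R.N - 1 = R.N - 2 + 1 by omega, pow_succ, ← rho_mul_vec, hxf, ← adj_symm hQ, QuadraticMap.polar_comm]
        exact hxo _ (hWmem _)
  obtain ⟨P, p1, p2, padj, pcm⟩ := exists_proj hQ R hWinv hWnd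
  have hPP : P * P = P := Matrix.ext_iff_mulVec.2 fun x => by rw [← mulVec_mulVec]; exact p2 _ (p1 x)
  obtain ⟨c, hc⟩ := exists_nonsquare_unit (F := F) h2
  obtain ⟨ε, hε⟩ := exists_norm_nonsquare hN R.frob hh hh0 hmin hc
  obtain ⟨L, hL⟩ : ∃ L : A →ₗ[F] (ι → F), L = (orbMap R v).comp (LinearMap.mulRight F h0) := ⟨_, rfl⟩
  have hLa : ∀ a, L a = R.rho (a * h0) *ᵥ v := fun a => by rw [hL]; rfl
  have hv0 : R.rho h0 *ᵥ v ≠ 0 := fun h => hφ h0 hh hfh0 hh0 (by rw [h, pzero_right hQ])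
  have hLker : ∀ a, L a = 0 ↔ a * h0 = 0 := by
    refine fun a => ⟨fun h => ?_, fun h => by rw [hLa, h, map_zero, zero_mulVec]⟩
    by_contra hne
    refine hv0 ?_
    rw [← inv_of_minIdem hN R.frob hh hmin hne, show a * a ^ (R.N - 2) * h0 = a ^ (R.N - 2) * (a * h0) by ring,
      ← rho_mul_vec, ← hLa, h, mulVec_zero]
  obtain ⟨T, hT⟩ : ∃ T : A → (↥(LinearMap.range L) →ₗ[F] ↥(LinearMap.range L)),
      ∀ b a, (T b ⟨L a, a, rfl⟩ : ι → F) = L (b * a) := by
    refine ⟨fun b => (Matrix.toLin' (R.rho b)).restrict ?_, fun b a => ?_⟩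
    · rintro _ ⟨a, rfl⟩
      exact ⟨b * a, by rw [Matrix.toLin'_apply, hLa, hLa, rho_mul_vec, mul_assoc]⟩
    · show Matrix.toLin' (R.rho b) (L a) = L (b * a)
      rw [Matrix.toLin'_apply, hLa, hLa, rho_mul_vec, mul_assoc]
  have hTm : ∀ a b, T (a * b) = (T a).comp (T b) := fun a b => by
    refine LinearMap.ext fun ⟨x, y, hy⟩ => Subtype.ext ?_
    subst hy
    rw [LinearMap.comp_apply, hT]
    have e : T b ⟨L y, y, rfl⟩ = ⟨L (b * y), _, rfl⟩ := Subtype.ext (hT b y)
    rw [e, hT, mul_assoc]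
  have hT1 : ∀ a, a * h0 = h0 → LinearMap.det (T a) = 1 := fun a ha => by
    rw [show T a = LinearMap.id from LinearMap.ext fun ⟨x, y, hy⟩ => Subtype.ext (by
      subst hy
      rw [hT]
      show L (a * y) = L y
      rw [hLa, mul_right_comm, ha, hLa, mul_comm]), LinearMap.det_id]
  have hns : ¬ IsSquare (LinearMap.det (T ε)) := hε (ι → F) L hLker (T ε) (hT ε)
  have hεh : ε * h0 ≠ 0 := by
    intro h
    haveI : Nontrivial ↥(LinearMap.range L) :=
      nontrivial_of_ne ⟨L 1, 1, rfl⟩ 0 fun e => hv0 (by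
        have h' : L 1 = 0 := congrArg Subtype.val e
        rwa [hLa, one_mul] at h')
    refine hns ?_
    rw [show T ε = 0 from LinearMap.ext fun ⟨x, y, hy⟩ => Subtype.ext (by
      subst hy
      rw [hT, hLa, mul_right_comm, h, zero_mul, map_zero, zero_mulVec]
      rfl), LinearMap.det_zero'']
    exact IsSquare.zero
  obtain ⟨α, hαns, hα1, hαne⟩ : ∃ α : A, ¬ IsSquare (LinearMap.det (T α)) ∧ (α - 1) * h0 = α - 1 ∧
      (R.sig α - α) * h0 ≠ 0 := by
    suffices h : ∃ δ : A, ¬ IsSquare (LinearMap.det (T δ)) ∧ (h1 = h0 → (R.sig δ - δ) * h0 ≠ 0) by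
      obtain ⟨δ, hδ, hδ'⟩ := h
      obtain ⟨α, hα⟩ : ∃ α, α = (δ - 1) * h0 + 1 := ⟨_, rfl⟩
      have hTα : T α = T δ := LinearMap.ext fun ⟨x, y, hy⟩ => Subtype.ext (by
        subst hy
        rw [hT, hT, hLa, hLa]
        congr 2
        rw [hα]
        linear_combination ((δ - 1) * y) * hh)
      refine ⟨α, by rwa [hTα], by rw [hα]; linear_combination (δ - 1) * hh, ?_⟩
      have hσα : (R.sig α - α) * h0 = (R.sig δ - 1) * (h1 * h0) + (1 - δ) * h0 := by
        rw [hα, map_add, map_mul, map_sub, map_one, ← hh1]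
        linear_combination -(δ - 1) * hh
      rcases idem_eq_or (N := R.N) hh hmin h11 with hp | hp
      · rw [hσα, hp, mul_zero, zero_add]
        intro hz
        refine hδ ?_
        rw [hT1 δ (by linear_combination -hz)]
        exact IsSquare.one
      · have h10 : h1 = h0 := by
          rcases idem_eq_or (N := R.N) h11 hmin1 hh with hq | hq
          · rw [mul_comm, hp] at hq; exact absurd hq hh0
          · rw [← hq, mul_comm, hp]
        rw [hσα, hp]
        intro hz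
        exact hδ' h10 (by linear_combination hz)
    by_cases hfix : h1 = h0 ∧ (R.sig ε - ε) * h0 = 0
    · obtain ⟨h10, hfix⟩ := hfix
      obtain ⟨γ, hγ⟩ : ∃ γ, γ = 1 + s := ⟨_, rfl⟩
      have hprod : ∀ a b : A, a * h0 ≠ 0 → b * h0 ≠ 0 → a * b * h0 ≠ 0 := fun a b ha hb h => hb (by
        calc b * h0 = b * (a * a ^ (R.N - 2) * h0) := by rw [inv_of_minIdem hN R.frob hh hmin ha]
          _ = a ^ (R.N - 2) * (a * b * h0) := by ring
          _ = 0 := by rw [h, mul_zero])
      have hsh : s * h0 ≠ 0 := fun h => hh0 (by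
        rw [← hhe, he1, show R.N - 1 = R.N - 2 + 1 by omega, pow_succ,
          show h0 * (s ^ (R.N - 2) * s) = s ^ (R.N - 2) * (s * h0) by ring, h, mul_zero])
      have htwo : (algebraMap F A 2) * h0 ≠ 0 := fun h => hh0 (by
        have e : algebraMap F A 2⁻¹ * algebraMap F A 2 = 1 := by rw [← map_mul, inv_mul_cancel₀ h2, map_one]
        linear_combination algebraMap F A 2⁻¹ * h - h0 * e)
      have hγh : γ * h0 ≠ 0 := fun h => by
        have h' := congrArg R.sig h
        rw [map_mul, ← hh1, h10, map_zero, hγ, map_add, map_one, hσs] at h'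
        rw [hγ] at h
        exact htwo (by rw [map_ofNat]; linear_combination h + h')
      refine ⟨ε * (γ * γ), ?_, fun _ => ?_⟩
      · rw [hTm, hTm, LinearMap.det_comp, LinearMap.det_comp]
        have hd : LinearMap.det (T γ) * LinearMap.det (T (γ ^ (R.N - 2))) = 1 := by
          rw [← LinearMap.det_comp, ← hTm]
          exact hT1 _ (inv_of_minIdem hN R.frob hh hmin hγh)
        rintro ⟨t, ht⟩
        refine hns ⟨t * LinearMap.det (T (γ ^ (R.N - 2))), ?_⟩
        linear_combination (LinearMap.det (T (γ ^ (R.N - 2)))) ^ 2 * ht -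
          LinearMap.det (T ε) * (LinearMap.det (T γ) * LinearMap.det (T (γ ^ (R.N - 2))) + 1) * hd
      · intro hz
        refine hprod (algebraMap F A 2 * algebraMap F A 2) (s * ε) (hprod _ _ htwo htwo) (hprod _ _ hsh hεh) ?_
        rw [map_mul, map_mul, hγ, map_add, map_one, hσs] at hz
        rw [map_ofNat]
        linear_combination -hz + (1 - s) * (1 - s) * hfix
    · exact ⟨ε, hns, fun e hz => hfix ⟨e, hz⟩⟩
  have hαf : (α - 1) * f = α - 1 := by rw [← hα1, mul_assoc, hfh0]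
  obtain ⟨β, hβ⟩ : ∃ β, β = R.sig α - α := ⟨_, rfl⟩
  rw [← hβ] at hαne
  have hβinv : β * β ^ (R.N - 2) * f = f := by
    have b0 := inv_of_minIdem hN R.frob hh hmin hαne
    have b1 := inv_of_minIdem hN R.frob h11 hmin1 (a := β) (fun h => hαne (by
      have := congrArg R.sig h
      rw [map_mul, hσh1, map_zero, hβ, map_sub, R.sig_sig] at this
      rw [hβ]
      linear_combination -this))
    rw [hf]
    linear_combination (1 - h1) * b0 + b1
  obtain ⟨M, hM⟩ : ∃ M : A → Matrix ι ι F, ∀ a, M a = 1 + R.rho (a - 1) * P := ⟨_, fun _ => rfl⟩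
  have hMx : ∀ a x, M a *ᵥ x = x + R.rho (a - 1) *ᵥ (P *ᵥ x) := fun a x => by
    rw [hM, add_mulVec, one_mulVec, mulVec_mulVec]
  have hMadj : ∀ a x y, pol Q (M a *ᵥ x) y = pol Q x (M (R.sig a) *ᵥ y) := fun a x y => by
    rw [hMx, hMx, padd_left hQ, padd_right hQ, R.adj, padj, map_sub, map_one, mulVec_mulVec, ← pcm,
      ← mulVec_mulVec]
  have hLW : ∀ a, L a ∈ W := fun a => by rw [hLa]; exact hWmem _
  have hML : ∀ a y, M a *ᵥ L y = L (a * y) := fun a y => by
    rw [hMx, p2 _ (hLW y), hLa, rho_mul_vec, hLa, ← add_mulVec, ← map_add]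
    congr 2
    ring
  have hdetM : (M α).det = LinearMap.det (T α) := by
    have hle : LinearMap.range L ≤ (LinearMap.range L).comap (Matrix.toLin' (M α)) := by
      rintro _ ⟨y, rfl⟩
      exact ⟨α * y, by rw [Matrix.toLin'_apply, hML]⟩
    have h := LinearMap.det_eq_det_mul_det (LinearMap.range L) (Matrix.toLin' (M α)) hle
    have hq : (LinearMap.range L).mapQ (LinearMap.range L) (Matrix.toLin' (M α)) hle = LinearMap.id := by
      refine Submodule.linearMap_qext _ (LinearMap.ext fun x => ?_)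
      show Submodule.Quotient.mk (Matrix.toLin' (M α) x) = Submodule.Quotient.mk x
      rw [Submodule.Quotient.eq, Matrix.toLin'_apply, hMx, add_sub_cancel_left]
      obtain ⟨b, hb⟩ : P *ᵥ x ∈ LinearMap.range (orbMap R v) := hW ▸ p1 x
      refine ⟨(α - 1) * b, ?_⟩
      rw [hLa, ← hb, orbMap_apply, rho_mul_vec, mul_right_comm, hα1]
    rw [hq, LinearMap.det_id, mul_one, LinearMap.det_toLin'] at h
    rw [h]
    congr 1
    refine LinearMap.ext fun ⟨x, y, hy⟩ => Subtype.ext ?_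
    subst hy
    rw [hT]
    show Matrix.toLin' (M α) (L y) = _
    rw [Matrix.toLin'_apply, hML]
  have hne : (M α).det ≠ 0 := fun h => hαns (by rw [← hdetM, h]; exact IsSquare.zero)
  have hne' : (M (R.sig α)).det ≠ 0 := by rwa [det_adj hQ (hMadj α)]
  obtain ⟨a, ha⟩ : ∃ a : GL ι F, (a : Matrix ι ι F) = M α :=
    ⟨Matrix.GeneralLinearGroup.mkOfDetNeZero _ hne, rfl⟩
  obtain ⟨a', ha'⟩ : ∃ a : GL ι F, (a : Matrix ι ι F) = M (R.sig α) :=
    ⟨Matrix.GeneralLinearGroup.mkOfDetNeZero _ hne', rfl⟩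
  obtain ⟨hw1, hw2, hw3⟩ := rot_of_pair hQ h2 (a := a) (a' := a') (fun x y => by rw [ha, ha']; exact hMadj α x y)
    (Units.ext (by rw [Units.val_mul, Units.val_mul, ha, ha', hM, hM, one_add_mul hQ hPP pcm, one_add_mul hQ hPP pcm,
      mul_comm α]))
    (fun x => by
      refine ⟨R.rho (β ^ (R.N - 2) * (α - 1)) *ᵥ x, ?_⟩
      rw [ha, ha', hMx, hMx, hMx, add_sub_cancel_left, add_sub_add_left_eq_sub, ← sub_mulVec, ← map_sub,
        show R.sig α - 1 - (α - 1) = β by rw [hβ]; ring, mulVec_mulVec _ P, ← pcm, ← mulVec_mulVec, rho_mul_vec]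
      congr 2
      calc α - 1 = (α - 1) * (β * β ^ (R.N - 2) * f) := by rw [hβinv, hαf]
        _ = β * (β ^ (R.N - 2) * ((α - 1) * f)) := by ring
        _ = _ := by rw [hαf])
  refine ⟨_, hw1, hw2, ?_, ?_⟩
  · rw [hw3, ha, hdetM, Ne, sqc_eq_one_iff (fun h => hne (hdetM.trans h))]
    exact hαns
  · have hcu : ∀ (b : GL ι F) (z : A), (b : Matrix ι ι F) = M z → Commute b u := fun b z hb => Units.ext (by
      rw [Units.val_mul, Units.val_mul, hb, hM, ← R.rho_gen, add_mul, mul_add, one_mul, mul_one, mul_assoc, ← pcm,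
        ← mul_assoc, ← mul_assoc, ← map_mul, ← map_mul, mul_comm (z - 1)])
    exact (hcu a α ha).mul_left (hcu a' _ ha').inv_left

end CfsgLib.Orth.SemiCent
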