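import Cfsg.Agent.Lib.Orth.SemiCent.Rot
import Mathlib.Algebra.CharP.Algebra
import Mathlib.FieldTheory.Finite.Basic

/-!
# The commutative algebra generated by an isometry of odd prime order prime to the characteristic
-/

set_option autoImplicit false
set_option linter.all false

namespace CfsgLib.Orth.SemiCent

open scoped Matrix
open Matrix Cfsg.Geo CfsgLib.Perm.Asch CfsgLib.Perm.Trans CfsgLib.Perm.Trans.Quad

universe u

variable {ι : Type} [Fintype ι] [DecidableEq ι] {F : Type u} [Field F] [Fintype F]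
variable {Q : (ι → F) → F}

local notation "pol" => QuadraticMap.polar

/-- the data used from the algebra generated by an isometry -/
structure CycAlg (Q : (ι → F) → F) (A : Type u) [CommRing A] [Algebra F A] (u : GL ι F) (r : ℕ) where
  rho : A →ₐ[F] Matrix ι ι F
  sig : A →ₐ[F] A
  gen : A
  N : ℕ
  inj : Function.Injective rho
  rho_gen : rho gen = (u : Matrix ι ι F)
  three_le : 3 ≤ N
  odd_N : Odd N
  frob : ∀ a : A, a ^ N = a
  sig_sig : ∀ a, sig (sig a) = a
  adj : ∀ a x y, pol Q (rho a *ᵥ x) y = pol Q x (rho (sig a) *ᵥ y)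
  sig_gen : sig gen * gen = 1
  gen_pow : gen ^ r = 1

variable (hQ : IsNondegenerateQuadraticForm Q)
include hQ

omit [Fintype F] in
theorem eq_of_adj {B C : Matrix ι ι F} (h : ∀ x y, pol Q x (B *ᵥ y) = pol Q x (C *ᵥ y)) : B = C := by
  refine Matrix.ext_iff_mulVec.2 fun y => ?_
  by_contra hne
  obtain ⟨⟨z, hz⟩, -⟩ := hQ.nondegenerate _ (sub_ne_zero.2 hne)
  exact hz (by rw [psub_right hQ, h, sub_self])

theorem exists_cycAlg [Nonempty ι] (h2 : (2 : F) ≠ 0) {u : GL ι F} (hu : u ∈ Cfsg.isometryGroup F Q) {r : ℕ}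
    (hr : r.Prime) (hur : u ^ r = 1) (hrF : (r : F) ≠ 0) :
    ∃ (A : Type u) (_ : CommRing A) (_ : Algebra F A) (_ : Finite A), Nonempty (CycAlg Q A u r) := by
  obtain ⟨U, hU⟩ : ∃ U : Matrix ι ι F, U = u := ⟨_, rfl⟩
  letI : CommRing ↥(Algebra.adjoin F ({U} : Set (Matrix ι ι F))) := Algebra.adjoinCommRingOfComm F (by
    intro a ha b hb; rw [Set.mem_singleton_iff] at ha hb; rw [ha, hb])
  obtain ⟨gen, hgen⟩ : ∃ g : ↥(Algebra.adjoin F ({U} : Set (Matrix ι ι F))), g = ⟨U, Algebra.self_mem_adjoin_singleton F U⟩ :=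
    ⟨_, rfl⟩
  have hinj : Function.Injective (Algebra.adjoin F ({U} : Set (Matrix ι ι F))).val := Subtype.val_injective
  obtain ⟨p, hcp⟩ := CharP.exists F
  haveI : Fact p.Prime := ⟨CharP.char_is_prime F p⟩
  obtain ⟨f, -, hq⟩ := FiniteField.card F p
  haveI : CharP ↥(Algebra.adjoin F ({U} : Set (Matrix ι ι F))) p :=
    charP_of_injective_algebraMap (algebraMap F _).injective p
  obtain ⟨N, hNdef⟩ : ∃ N, N = Fintype.card F ^ (r - 1) := ⟨_, rfl⟩
  have hgr : gen ^ r = 1 := hinj (by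
    rw [map_pow, map_one, hgen]
    show U ^ r = 1
    rw [hU, ← Units.val_pow_eq_pow_val, hur, Units.val_one])
  have hNmod : N % r = 1 := by
    have hcop : (Fintype.card F).Coprime r := by
      rw [hq, Nat.coprime_pow_left_iff f.pos, Nat.coprime_primes Fact.out hr]
      rintro rfl
      exact hrF (CharP.cast_eq_zero F p)
    have h := Nat.ModEq.pow_totient hcop
    rw [Nat.totient_prime hr, Nat.ModEq, Nat.one_mod_eq_one.2 hr.one_lt.ne'] at h
    rw [hNdef, h]
  have hfrob : ∀ a : ↥(Algebra.adjoin F ({U} : Set (Matrix ι ι F))), a ^ N = a := by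
    rintro ⟨a, ha⟩
    induction ha using Algebra.adjoin_induction with
    | mem x hx =>
      rw [Set.mem_singleton_iff] at hx
      subst hx
      rw [← hgen, ← Nat.div_add_mod N r, hNmod, pow_add, pow_mul, hgr, one_pow, one_mul, pow_one]
    | algebraMap c =>
      show (algebraMap F ↥(Algebra.adjoin F ({U} : Set (Matrix ι ι F))) c) ^ N = algebraMap F _ c
      rw [← map_pow, hNdef, FiniteField.pow_card_pow]
    | add x y hx hy ihx ihy =>
      show (⟨x, hx⟩ + ⟨y, hy⟩ : ↥(Algebra.adjoin F ({U} : Set (Matrix ι ι F)))) ^ N = ⟨x, hx⟩ + ⟨y, hy⟩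
      rw [hNdef, hq, ← pow_mul] at ihx ihy ⊢
      rw [add_pow_char_pow, ihx, ihy]
    | mul x y hx hy ihx ihy =>
      show (⟨x, hx⟩ * ⟨y, hy⟩ : ↥(Algebra.adjoin F ({U} : Set (Matrix ι ι F)))) ^ N = ⟨x, hx⟩ * ⟨y, hy⟩
      rw [mul_pow, ihx, ihy]
  have hodd : Odd (Fintype.card F) := by
    rw [hq]
    refine ((Fact.out : p.Prime).odd_of_ne_two ?_).pow
    rintro rfl
    exact h2 (CharP.cast_eq_zero F 2)
  have h3 : 3 ≤ N := by
    have h1 : 2 ≤ Fintype.card F := Fintype.one_lt_card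
    have h2' : 3 ≤ Fintype.card F := by obtain ⟨j, hj⟩ := hodd; omega
    rw [hNdef]
    exact le_trans h2' (Nat.le_self_pow (by have := hr.two_le; omega) _)
  have hu' : ∀ x y, pol Q (U *ᵥ x) y = pol Q x (U ^ (r - 1) *ᵥ y) := fun x y => by
    have h1 : U ^ (r - 1) *ᵥ y = ((u⁻¹ : GL ι F) : Matrix ι ι F) *ᵥ y := by
      rw [hU, ← Units.val_pow_eq_pow_val, eq_inv_of_mul_eq_one_left (a := u ^ (r - 1)) (b := u)
        (by rw [← pow_succ, Nat.sub_add_cancel hr.one_le, hur])]
    obtain ⟨z, hz⟩ : ∃ z, z = ((u⁻¹ : GL ι F) : Matrix ι ι F) *ᵥ y := ⟨_, rfl⟩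
    have hy : y = (u : Matrix ι ι F) *ᵥ z := by
      rw [hz, ← gl_mul_mulVec, mul_inv_cancel, Units.val_one, one_mulVec]
    rw [h1, ← hz, hy, hU]
    simp only [QuadraticMap.polar, ← mulVec_add, mem_iso.1 hu]
  have hex : ∀ a : ↥(Algebra.adjoin F ({U} : Set (Matrix ι ι F))), ∃ b : ↥(Algebra.adjoin F ({U} : Set (Matrix ι ι F))),
      ∀ x y, pol Q ((a : Matrix ι ι F) *ᵥ x) y = pol Q x ((b : Matrix ι ι F) *ᵥ y) := by
    rintro ⟨a, ha⟩
    induction ha using Algebra.adjoin_induction with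
    | mem x hx =>
      rw [Set.mem_singleton_iff] at hx
      subst hx
      exact ⟨⟨_, pow_mem (Algebra.self_mem_adjoin_singleton F x) (r - 1)⟩, hu'⟩
    | algebraMap c =>
      refine ⟨⟨_, (Algebra.adjoin F _).algebraMap_mem c⟩, fun x y => ?_⟩
      show pol Q (algebraMap F (Matrix ι ι F) c *ᵥ x) y = pol Q x (algebraMap F (Matrix ι ι F) c *ᵥ y)
      rw [Algebra.algebraMap_eq_smul_one, smul_mulVec, one_mulVec, smul_mulVec, one_mulVec, psmul_left hQ,
        psmul_right hQ]
    | add x y hx hy ihx ihy =>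
      obtain ⟨b, hb⟩ := ihx
      obtain ⟨c, hc⟩ := ihy
      refine ⟨b + c, fun v w => ?_⟩
      show pol Q ((x + y) *ᵥ v) w = pol Q v (((b : Matrix ι ι F) + (c : Matrix ι ι F)) *ᵥ w)
      rw [add_mulVec, add_mulVec, padd_left hQ, padd_right hQ, hb, hc]
    | mul x y hx hy ihx ihy =>
      obtain ⟨b, hb⟩ := ihx
      obtain ⟨c, hc⟩ := ihy
      refine ⟨c * b, fun v w => ?_⟩
      show pol Q ((x * y) *ᵥ v) w = pol Q v (((c : Matrix ι ι F) * (b : Matrix ι ι F)) *ᵥ w)
      rw [← mulVec_mulVec, ← mulVec_mulVec, hb, hc]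
  choose σ hσ using hex
  have huniq : ∀ a b : ↥(Algebra.adjoin F ({U} : Set (Matrix ι ι F))), (∀ x y, pol Q ((a : Matrix ι ι F) *ᵥ x) y = pol Q x ((b : Matrix ι ι F) *ᵥ y)) → σ a = b :=
    fun a b h => hinj (eq_of_adj hQ fun x y => by
      show pol Q x ((σ a : Matrix ι ι F) *ᵥ y) = pol Q x ((b : Matrix ι ι F) *ᵥ y)
      rw [← hσ, h])
  refine ⟨↥(Algebra.adjoin F ({U} : Set (Matrix ι ι F))), inferInstance, inferInstance, inferInstance, ⟨?_⟩⟩
  exact
    { rho := (Algebra.adjoin F ({U} : Set (Matrix ι ι F))).val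
      sig :=
        { toFun := σ
          map_one' := huniq _ _ fun x y => by simp
          map_mul' := fun a b => huniq _ _ fun x y => by
            rw [mul_comm (σ a) (σ b), MulMemClass.coe_mul, MulMemClass.coe_mul, ← mulVec_mulVec, ← mulVec_mulVec,
              hσ, hσ]
          map_zero' := huniq _ _ fun x y => by simp [pzero_left hQ, pzero_right hQ]
          map_add' := fun a b => huniq _ _ fun x y => by
            rw [AddMemClass.coe_add, AddMemClass.coe_add, add_mulVec, add_mulVec, padd_left hQ, padd_right hQ,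
              hσ, hσ]
          commutes' := fun c => huniq _ _ fun x y => by
            show pol Q (algebraMap F (Matrix ι ι F) c *ᵥ x) y = pol Q x (algebraMap F (Matrix ι ι F) c *ᵥ y)
            rw [Algebra.algebraMap_eq_smul_one, smul_mulVec, one_mulVec, smul_mulVec, one_mulVec, psmul_left hQ,
              psmul_right hQ] }
      gen := gen
      N := N
      inj := hinj
      rho_gen := by rw [hgen]; exact hU
      three_le := h3
      odd_N := by rw [hNdef]; exact hodd.pow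
      frob := hfrob
      sig_sig := fun a => huniq _ _ fun x y => by
        show pol Q ((σ a : Matrix ι ι F) *ᵥ x) y = pol Q x ((a : Matrix ι ι F) *ᵥ y)
        rw [QuadraticMap.polar_comm Q, ← hσ, QuadraticMap.polar_comm Q]
      adj := fun a x y => hσ a x y
      sig_gen := by
        show σ gen * gen = 1
        rw [huniq gen (gen ^ (r - 1)) (fun x y => by rw [hgen]; exact hu' x y), ← pow_succ,
          Nat.sub_add_cancel hr.one_le, hgr]
      gen_pow := hgr }

end CfsgLib.Orth.SemiCent
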